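import Groth.Agent.NonAbH1.K553.SubTorsGen
import Groth.Agent.NonAbH1.K554.BcPt
import Groth.Agent.Desc.MorDescent

/-!
# Closures of subtorsors
-/

set_option autoImplicit false
universe u

open CategoryTheory CategoryTheory.Limits MonoidalCategory CartesianMonoidalCategory MonObj GrpObj AlgebraicGeometry
open Groth.Agent.Books.BorelOrb
open scoped TensorProduct

namespace K553.SubTorsMain

/-- A morphism from `W` factors through a closed subscheme if it does so on a schematically dense `U ⟶ W`. -/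
theorem exists_lift_of_dom {U W P Z : Scheme.{u}} (d : U ⟶ W) [IsSchemeTheoreticallyDominant d] (u : W ⟶ P) (j : Z ⟶ P)
    [IsClosedImmersion j] (z : U ⟶ Z) (h : d ≫ u = z ≫ j) : ∃ w : W ⟶ Z, w ≫ j = u := by
  have h1 : j.ker ≤ u.ker := by
    have h2 : j.ker ≤ (z ≫ j).ker := Scheme.Hom.le_ker_comp z j
    rw [← h, Scheme.Hom.ker_comp, d.ker_eq_bot, Scheme.IdealSheafData.map_bot] at h2
    exact h2
  exact ⟨IsClosedImmersion.lift j u h1, IsClosedImmersion.lift_fac j u h1⟩

section Action

variable {X : Scheme.{u}} {H Z P : Over X} [GrpObj H] (a : AlgGrp.Action H P) (j : Z ⟶ P) [Mono j]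

/-- the action on a stable subobject -/
noncomputable def subAction (w : H ⊗ Z ⟶ Z) (hw : w ≫ j = (H ◁ j) ≫ a.act) : AlgGrp.Action H Z where
  act := w
  one_act := by
    rw [← cancel_mono j, Category.assoc, hw, ← whisker_exchange_assoc, a.one_act, leftUnitor_naturality]
  mul_act := by
    rw [← cancel_mono j, Category.assoc, hw, ← whisker_exchange_assoc, a.mul_act, Category.assoc, Category.assoc,
      hw, associator_naturality_right_assoc, ← MonoidalCategory.whiskerLeft_comp_assoc, ← hw,
      MonoidalCategory.whiskerLeft_comp_assoc, hw]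

theorem mono_shear (b : AlgGrp.Action H Z) (hb : AlgGrp.Action.IsEquivariant b a j)
    [Mono (lift a.act (snd H P))] : Mono (lift b.act (snd H Z)) := by
  have h1 : lift b.act (snd H Z) ≫ (j ⊗ₘ j) = (H ◁ j) ≫ lift a.act (snd H P) := by
    apply CartesianMonoidalCategory.hom_ext
    · simp only [Category.assoc, tensorHom_fst, lift_fst_assoc, lift_fst]
      exact hb
    · simp
  have h2 : Mono (H ◁ j) := by
    refine ⟨fun {T} x y hxy => ?_⟩
    apply CartesianMonoidalCategory.hom_ext
    · have := congrArg (· ≫ fst _ _) hxy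
      simpa using this
    · have := congrArg (· ≫ snd _ _) hxy
      simp only [Category.assoc, whiskerLeft_snd] at this
      rw [← cancel_mono j, Category.assoc, Category.assoc, this]
  have h3 : Mono (lift b.act (snd H Z) ≫ (j ⊗ₘ j)) := by rw [h1]; infer_instance
  exact mono_of_mono _ (j ⊗ₘ j)

end Action

section Closure

variable {X XK : Scheme.{u}} (g : XK ⟶ X) {H Z P : Over X} [GrpObj H] (a : AlgGrp.Action H P) (j : Z ⟶ P)
  [IsClosedImmersion j.left]

instance mono_of_isClosedImmersion_left : Mono j := by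
  have : Mono j.left := inferInstance
  exact (Over.forget X).mono_of_mono_map this

/-- The action on a closed subscheme which is stable over a schematically dense part of the base. -/
theorem exists_action (hd : IsSchemeTheoreticallyDominant (pullback.fst (H ⊗ Z).hom g))
    (bη : AlgGrp.Action (Red.bc g H) (Red.bc g Z))
    (hj : AlgGrp.Action.IsEquivariant bη (a.bc g) ((Over.pullback g).map j)) :
    ∃ b : AlgGrp.Action H Z, AlgGrp.Action.IsEquivariant b a j ∧ b.bc g = bη := by
  have e1 : (Over.pullback g).map ((H ◁ j) ≫ a.act) = inv (Functor.LaxMonoidal.μ (Over.pullback g) H Z) ≫ bη.act ≫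
      (Over.pullback g).map j := by
    rw [IsIso.eq_inv_comp, hj, AlgGrp.Action.bc_act, Functor.LaxMonoidal.μ_natural_right_assoc, Functor.map_comp]
  have e2 : pullback.fst (H ⊗ Z).hom g ≫ ((H ◁ j) ≫ a.act).left =
      ((inv (Functor.LaxMonoidal.μ (Over.pullback g) H Z) ≫ bη.act).left ≫ pullback.fst Z.hom g) ≫ j.left := by
    have h1 : ((Over.pullback g).map ((H ◁ j) ≫ a.act)).left ≫ pullback.fst P.hom g =
        pullback.fst (H ⊗ Z).hom g ≫ ((H ◁ j) ≫ a.act).left := pullback.lift_fst _ _ _
    have h2 : ((Over.pullback g).map j).left ≫ pullback.fst P.hom g =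
        pullback.fst Z.hom g ≫ j.left := pullback.lift_fst _ _ _
    have h3 : inv (Functor.LaxMonoidal.μ (Over.pullback g) H Z) ≫ bη.act ≫ (Over.pullback g).map j =
        (inv (Functor.LaxMonoidal.μ (Over.pullback g) H Z) ≫ bη.act) ≫ (Over.pullback g).map j :=
      (Category.assoc _ _ _).symm
    rw [← h1, e1, h3, Over.comp_left, Category.assoc, h2, Category.assoc]
  obtain ⟨w₀, hw₀⟩ := exists_lift_of_dom _ _ j.left _ e2
  let w : H ⊗ Z ⟶ Z := Over.homMk w₀ (by
    rw [← Over.w j, ← Category.assoc, hw₀]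
    exact Over.w _)
  have hw : w ≫ j = (H ◁ j) ≫ a.act := Over.OverMorphism.ext hw₀
  refine ⟨subAction a j w hw, hw, ?_⟩
  apply AlgGrp.Action.ext'
  have : Mono ((Over.pullback g).map j) := inferInstance
  rw [← cancel_mono ((Over.pullback g).map j), AlgGrp.Action.bc_act, Category.assoc, ← Functor.map_comp]
  change _ ≫ (Over.pullback g).map (w ≫ j) = _
  rw [hw, e1, IsIso.hom_inv_id_assoc]

end Closure

section Trans

/-- transitivity over the part where the action is a torsor -/
theorem exists_trans {X XK : Scheme.{u}} (g : XK ⟶ X) {H Z : Over X} [GrpObj H] (b : AlgGrp.Action H Z)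
    (hη : NonAbH1.IsPseudoTorsorSch (b.bc g)) {T : Scheme.{u}} (z z' : T ⟶ Z.left) (t : T ⟶ XK)
    (hz : z ≫ Z.hom = t ≫ g) (hz' : z' ≫ Z.hom = t ≫ g) :
    ∃ w : T ⟶ (H ⊗ Z).left, w ≫ b.act.left = z ∧ w ≫ (snd H Z).left = z' := by
  let Y : Over XK := Over.mk t
  let ζ : (Over.map g).obj Y ⟶ Z := Over.homMk z hz
  let ζ' : (Over.map g).obj Y ⟶ Z := Over.homMk z' hz'
  let δ := K554.Fpqc.dif hη (K554.BcPt.mk g ζ) (K554.BcPt.mk g ζ')
  have h1 : lift (K554.BcPt.un g δ) ζ' ≫ b.act = ζ := by
    apply K554.BcPt.mk_injective g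
    have h2 := AlgGrp.Action.lift_homEquiv_bc_act g b (K554.BcPt.un g δ) ζ'
    have h3 : sm (b.bc g) δ (K554.BcPt.mk g ζ') = K554.BcPt.mk g ζ := K554.Fpqc.sm_dif hη _ _
    have h4 := K554.BcPt.mk_un g δ
    rw [sm, ← h4] at h3
    exact h2.symm.trans h3
  refine ⟨(lift (K554.BcPt.un g δ) ζ').left, ?_, ?_⟩
  · rw [← Over.comp_left, h1]; rfl
  · rw [← Over.comp_left, lift_snd]; rfl

theorem exists_trans_chart {X V VK : Scheme.{u}} (v : V ⟶ X) (gV : VK ⟶ V) {H Z : Over X} [GrpObj H]
    (b : AlgGrp.Action H Z) {T : Scheme.{u}} (z z' : T ⟶ (Red.bc v Z).left) (t : T ⟶ VK)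
    (hz : z ≫ (Red.bc v Z).hom = t ≫ gV) (hz' : z' ≫ (Red.bc v Z).hom = t ≫ gV)
    (w₀ : T ⟶ (H ⊗ Z).left) (h1 : w₀ ≫ b.act.left = z ≫ pullback.fst Z.hom v)
    (h2 : w₀ ≫ (snd H Z).left = z' ≫ pullback.fst Z.hom v) :
    ∃ w : T ⟶ (Red.bc v H ⊗ Red.bc v Z).left, w ≫ (b.bc v).act.left = z ∧
      w ≫ (snd (Red.bc v H) (Red.bc v Z)).left = z' := by
  have h3 : w₀ ≫ (H ⊗ Z).hom = (t ≫ gV) ≫ v := by
    rw [← Over.w (snd H Z), ← Category.assoc, h2, Category.assoc, pullback.condition, ← hz']
    exact (Category.assoc _ _ _).symm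
  let w₁ : T ⟶ (Red.bc v (H ⊗ Z)).left := pullback.lift w₀ (t ≫ gV) h3
  let μ' := Functor.LaxMonoidal.μ (Over.pullback v) H Z
  have e1 : inv μ' ≫ (b.bc v).act = (Over.pullback v).map b.act := by
    rw [IsIso.inv_comp_eq, AlgGrp.Action.bc_act]
  have e2 : inv μ' ≫ snd (Red.bc v H) (Red.bc v Z) = (Over.pullback v).map (snd H Z) := by
    rw [IsIso.inv_comp_eq, Functor.Monoidal.μ_snd]
  refine ⟨w₁ ≫ (inv μ').left, ?_, ?_⟩
  · rw [Category.assoc, ← Over.comp_left, e1]
    apply pullback.hom_ext
    · have h4 : ((Over.pullback v).map b.act).left ≫ pullback.fst Z.hom v =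
        pullback.fst (H ⊗ Z).hom v ≫ b.act.left := pullback.lift_fst _ _ _
      rw [Category.assoc, h4, pullback.lift_fst_assoc, h1]
    · have h4 : ((Over.pullback v).map b.act).left ≫ pullback.snd Z.hom v =
        pullback.snd (H ⊗ Z).hom v := pullback.lift_snd _ _ _
      rw [Category.assoc, h4, pullback.lift_snd]
      exact hz.symm
  · rw [Category.assoc, ← Over.comp_left, e2]
    apply pullback.hom_ext
    · have h4 : ((Over.pullback v).map (snd H Z)).left ≫ pullback.fst Z.hom v =
        pullback.fst (H ⊗ Z).hom v ≫ (snd H Z).left := pullback.lift_fst _ _ _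
      rw [Category.assoc, h4, pullback.lift_fst_assoc, h2]
    · have h4 : ((Over.pullback v).map (snd H Z)).left ≫ pullback.snd Z.hom v =
        pullback.snd (H ⊗ Z).hom v := pullback.lift_snd _ _ _
      rw [Category.assoc, h4, pullback.lift_snd]
      exact hz'.symm

end Trans

section Local

variable {R : Type u} [CommRing R] [IsDomain R] [IsDiscreteValuationRing R] {X : Scheme.{u}}
  (f : X ⟶ Spec (CommRingCat.of R)) [Flat f]

/-- The statement on an affine chart. -/
theorem local_step {A : Type u} [CommRing A] [Algebra R A] (v : Spec (CommRingCat.of A) ⟶ X) [IsOpenImmersion v]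
    (hv : v ≫ f = Spec.map (CommRingCat.ofHom (algebraMap R A)))
    (hred : IsReduced (pullback f (Spec.map (CommRingCat.ofHom (IsLocalRing.residue R)))))
    {H Z : Over X} [GrpObj H] [IsFinite H.hom] [Flat H.hom] [LocallyOfFinitePresentation H.hom] [IsFinite Z.hom]
    (b : AlgGrp.Action H Z) (hm : Mono (lift b.act (snd H Z))) (hZ : Flat (Z.hom ≫ f))
    (hη : NonAbH1.IsPseudoTorsorSch (b.bc (pullback.fst f (Spec.map (CommRingCat.ofHom (algebraMap R (FractionRing R)))))))
    (h1 : Flat (Red.bc (pullback.fst f (Spec.map (CommRingCat.ofHom (algebraMap R (FractionRing R))))) Z).hom)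
    (h2 : Surjective (Red.bc (pullback.fst f (Spec.map (CommRingCat.ofHom (algebraMap R (FractionRing R))))) Z).hom) :
    IsIso (lift (b.bc v).act (snd (Red.bc v H) (Red.bc v Z))) ∧ Flat (Red.bc v Z).hom ∧
      Surjective (Red.bc v Z).hom := by
  have hfA : Flat (Spec.map (CommRingCat.ofHom (algebraMap R A))) := by rw [← hv]; infer_instance
  have hredA : _root_.IsReduced (A ⊗[R] IsLocalRing.ResidueField R) := by
    let r := Spec.map (CommRingCat.ofHom (IsLocalRing.residue R))
    let m : pullback (Spec.map (CommRingCat.ofHom (algebraMap R A))) r ⟶ pullback f r :=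
      pullback.map _ _ _ _ v (𝟙 _) (𝟙 _) (by rw [Category.comp_id, hv]) (by simp)
    have hm' : IsOpenImmersion m := inferInstance
    let e : Spec (CommRingCat.of (A ⊗[R] IsLocalRing.ResidueField R)) ≅
      pullback (Spec.map (CommRingCat.ofHom (algebraMap R A))) r :=
        (pullbackSpecIso R A (IsLocalRing.ResidueField R)).symm
    have : IsOpenImmersion (e.hom ≫ m) := inferInstance
    have h := isReduced_of_isOpenImmersion (e.hom ≫ m)
    exact (affine_isReduced_iff _).1 h
  have i1 : IsFinite (Red.bc v H).hom := inferInstanceAs (IsFinite (pullback.snd H.hom v))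
  have i2 : Flat (Red.bc v H).hom := inferInstanceAs (Flat (pullback.snd H.hom v))
  have i3 : LocallyOfFinitePresentation (Red.bc v H).hom :=
    inferInstanceAs (LocallyOfFinitePresentation (pullback.snd H.hom v))
  have i4 : IsFinite (Red.bc v Z).hom := inferInstanceAs (IsFinite (pullback.snd Z.hom v))
  have i5 : Flat ((Red.bc v Z).hom ≫ Spec.map (CommRingCat.ofHom (algebraMap R A))) := by
    have e : (Red.bc v Z).hom ≫ Spec.map (CommRingCat.ofHom (algebraMap R A)) =
        pullback.fst Z.hom v ≫ Z.hom ≫ f := by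
      rw [← hv, pullback.condition_assoc]; rfl
    rw [e]; infer_instance
  have i6 : Mono (lift (b.bc v).act (snd (Red.bc v H) (Red.bc v Z))) := by
    have key : lift (b.bc v).act (snd _ _) ≫ Functor.LaxMonoidal.μ (Over.pullback v) Z Z =
        Functor.LaxMonoidal.μ (Over.pullback v) H Z ≫ (Over.pullback v).map (lift b.act (snd H Z)) := by
      rw [← Functor.Monoidal.lift_μ, comp_lift_assoc, Functor.Monoidal.μ_snd, AlgGrp.Action.bc_act]
    have h3 : Mono ((Over.pullback v).map (lift b.act (snd H Z))) := inferInstance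
    have h4 : Mono (lift (b.bc v).act (snd _ _) ≫ Functor.LaxMonoidal.μ (Over.pullback v) Z Z) := by
      rw [key]; infer_instance
    exact mono_of_mono _ (Functor.LaxMonoidal.μ (Over.pullback v) Z Z)
  let gK := pullback.fst f (Spec.map (CommRingCat.ofHom (algebraMap R (FractionRing R))))
  let gV := pullback.fst (Spec.map (CommRingCat.ofHom (algebraMap R A)))
    (Spec.map (CommRingCat.ofHom (algebraMap R (FractionRing R))))
  let κ : pullback (Spec.map (CommRingCat.ofHom (algebraMap R A)))
      (Spec.map (CommRingCat.ofHom (algebraMap R (FractionRing R)))) ⟶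
      pullback f (Spec.map (CommRingCat.ofHom (algebraMap R (FractionRing R)))) :=
    pullback.map _ _ _ _ v (𝟙 _) (𝟙 _) (by rw [Category.comp_id, hv]) (by simp)
  have hκ : κ ≫ gK = gV ≫ v := pullback.lift_fst _ _ _
  have i7 : Flat (pullback.snd (Red.bc v Z).hom gV) := by
    change Flat (pullback.snd (pullback.snd Z.hom v) gV)
    rw [K554.Fpqc.prop_snd_snd_iff (P := @Flat), ← hκ]
    exact K554.Fpqc.prop_snd_comp (P := @Flat) _ _ _ h1
  have i8 : Surjective (pullback.snd (Red.bc v Z).hom gV) := by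
    change Surjective (pullback.snd (pullback.snd Z.hom v) gV)
    rw [K554.Fpqc.prop_snd_snd_iff (P := @Surjective), ← hκ]
    exact K554.Fpqc.prop_snd_comp (P := @Surjective) _ _ _ h2
  refine SubTorsGen.isTorsor hredA (b.bc v) i5 i6 i7 i8 ?_
  intro T z z' t hz hz'
  obtain ⟨w₀, hw1, hw2⟩ := exists_trans gK b hη (z ≫ pullback.fst Z.hom v) (z' ≫ pullback.fst Z.hom v) (t ≫ κ)
    (by
      rw [Category.assoc, Category.assoc, hκ, pullback.condition, ← Category.assoc, ← Category.assoc]
      exact congrArg (· ≫ v) hz)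
    (by
      rw [Category.assoc, Category.assoc, hκ, pullback.condition, ← Category.assoc, ← Category.assoc]
      exact congrArg (· ≫ v) hz')
  exact exists_trans_chart v gV b z z' t hz hz' w₀ hw1 hw2

end Local

end K553.SubTorsMain
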