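import Groth.Agent.NonAbH1.K553.FibExt
import Groth.Agent.Pi1.H396.ExtDedekind
import Groth.Agent.VarietyB.KrullAkizuki
import Mathlib.RingTheory.DedekindDomain.IntegralClosure
import Mathlib.RingTheory.Flat.TorsionFree
import Mathlib.RingTheory.Jacobson.Ring
import Mathlib.AlgebraicGeometry.Morphisms.FiniteType

/-!
# Normalization of a Dedekind domain in a finite extension; extending isomorphisms of torsors
-/

set_option autoImplicit false
set_option linter.unusedSectionVars false
universe u

open CategoryTheory CategoryTheory.Limits MonoidalCategory CartesianMonoidalCategory MonObj GrpObj AlgebraicGeometry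
open Groth.Agent.Books.BorelOrb K551.Tors
open Groth.Agent.Dix.GenFibre Groth.Agent.Dix.GenExtUniq

namespace K553.DedExt

/-- A nonempty scheme locally of finite type over a field has a point with values in a finite extension. -/
theorem exists_finite_point {K : Type u} [Field K] {U : Scheme.{u}} [Nonempty U]
    (h : U ⟶ Spec (CommRingCat.of K)) [LocallyOfFiniteType h] :
    ∃ (K' : Type u) (_ : Field K') (_ : Algebra K K') (_ : FiniteDimensional K K')
      (q : Spec (CommRingCat.of K') ⟶ U), q ≫ h = Spec.map (CommRingCat.ofHom (algebraMap K K')) := by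
  obtain ⟨u⟩ : Nonempty U := inferInstance
  obtain ⟨W, hW, huW, -⟩ := exists_isAffineOpen_mem_and_subset (U := (⊤ : U.Opens))
    (show u ∈ (⊤ : U.Opens) from trivial)
  let ψ : K →+* Γ(U, W) := (h.appLE ⊤ W le_top).hom.comp (Scheme.ΓSpecIso (CommRingCat.of K)).inv.hom
  have hψ : ψ.FiniteType := by
    have h1 : (h.appLE ⊤ W le_top).hom.FiniteType :=
      Scheme.Hom.finiteType_appLE h (isAffineOpen_top _) hW le_top
    exact h1.comp (RingHom.FiniteType.of_surjective _
      (ConcreteCategory.bijective_of_isIso (Scheme.ΓSpecIso (CommRingCat.of K)).inv).2)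
  have : Nontrivial Γ(U, W) := by
    have : Nonempty W := ⟨⟨u, huW⟩⟩
    exact inferInstance
  obtain ⟨m, hm⟩ := Ideal.exists_maximal Γ(U, W)
  let _ := ψ.toAlgebra
  have hft : Algebra.FiniteType K Γ(U, W) := hψ
  let _ : Field (Γ(U, W) ⧸ m) := Ideal.Quotient.field m
  have hfin : Module.Finite K (Γ(U, W) ⧸ m) := by
    have : Algebra.FiniteType K (Γ(U, W) ⧸ m) := inferInstance
    exact finite_of_finite_type_of_isJacobsonRing K (Γ(U, W) ⧸ m)
  refine ⟨Γ(U, W) ⧸ m, inferInstance, inferInstance, hfin,
    Spec.map (CommRingCat.ofHom (Ideal.Quotient.mk m)) ≫ hW.fromSpec, ?_⟩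
  rw [Category.assoc, ← IsAffineOpen.SpecMap_appLE_fromSpec h (isAffineOpen_top _) hW le_top,
    IsAffineOpen.fromSpec_top, Scheme.isoSpec_Spec_inv, ← Spec.map_comp, ← Spec.map_comp]
  rfl

section Alg

variable (R K K' : Type u) [CommRing R] [IsDedekindDomain R] [Field K] [Algebra R K] [IsFractionRing R K]
  [Field K'] [Algebra K K'] [FiniteDimensional K K'] [Algebra R K'] [IsScalarTower R K K']

include K in
omit [IsDedekindDomain R] [FiniteDimensional K K'] in
theorem injective_algebraMap : Function.Injective (algebraMap R K') := by
  rw [IsScalarTower.algebraMap_eq R K K']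
  exact (algebraMap K K').injective.comp (IsFractionRing.injective R K)

include K in
theorem isDedekindDomain : IsDedekindDomain (integralClosure R K') := by
  have h1 : IsNoetherianRing (integralClosure R K') :=
    Groth.Agent.VarietyB.KrullAkizuki.krullAkizuki (R := R) (K := K) (L := K')
      (A := integralClosure R K') Subtype.val_injective
  have h3 : Ring.DimensionLEOne (integralClosure R K') := inferInstance
  have h4 : IsIntegrallyClosed (integralClosure R K') :=
    integralClosure.isIntegrallyClosedOfFiniteExtension K
  have h5 : IsDedekindRing (integralClosure R K') := { }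
  exact { }

include K in
theorem isFractionRing : IsFractionRing (integralClosure R K') K' :=
  IsIntegralClosure.isFractionRing_of_finite_extension R K K' _

include K in
theorem flat : Flat (Spec.map (CommRingCat.ofHom (algebraMap R (integralClosure R K')))) := by
  have h0 : Module.IsTorsionFree R K' := .trans_faithfulSMul R K K'
  have h1 : Module.IsTorsionFree R (integralClosure R K') := IsIntegralClosure.isTorsionFree R K'
  have h2 : Module.Flat R (integralClosure R K') := inferInstance
  rw [HasRingHomProperty.Spec_iff (P := @Flat)]
  change (algebraMap R (integralClosure R K')).Flat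
  rwa [RingHom.flat_algebraMap_iff]

include K in
theorem surjective : Surjective (Spec.map (CommRingCat.ofHom (algebraMap R (integralClosure R K')))) := by
  constructor
  have h1 : Function.Injective (algebraMap R (integralClosure R K')) := by
    intro a b hab
    exact injective_algebraMap R K K' (congrArg (algebraMap (integralClosure R K') K') hab)
  have h2 : (algebraMap R (integralClosure R K')).IsIntegral := algebraMap_isIntegral_iff.mpr inferInstance
  exact h2.comap_surjective h1

theorem isPullback : IsPullback (Spec.map (CommRingCat.ofHom (algebraMap (integralClosure R K') K')))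
    (Spec.map (CommRingCat.ofHom (algebraMap K K')))
    (Spec.map (CommRingCat.ofHom (algebraMap R (integralClosure R K'))))
    (Spec.map (CommRingCat.ofHom (algebraMap R K))) := by
  have h1 : IsLocalization (Algebra.algebraMapSubmonoid (integralClosure R K') (nonZeroDivisors R)) K' :=
    IsIntegralClosure.isLocalization R K K' _
  have h2 := Algebra.isPushout_of_isLocalization (nonZeroDivisors R) K (integralClosure R K') K'
  have h3 := CommRingCat.isPushout_iff_isPushout.mpr h2
  exact isPullback_SpecMap_of_isPushout _ _ _ _ h3

end Alg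

section Main

variable {R : Type u} [CommRing R] [IsDedekindDomain R]
variable {G : Over (Spec (CommRingCat.of R))} [GrpObj G]

/-- Extension of isomorphisms of generic fibres of torsors under a proper flat group over a Dedekind domain. -/
theorem exists_equivIso [IsProper G.hom] [Flat G.hom] (P Q : NonAbH1.TorsorSch G Scheme.fppfPrecoverage)
    (φ : NonAbH1.EquivIso (P.act.bc (Neron.genPt R)) (Q.act.bc (Neron.genPt R))) :
    ∃ ψ : NonAbH1.EquivIso P.act Q.act, (Neron.genericFibre R).map ψ.iso.hom = φ.iso.hom := by
  have p1 : IsProper P.X.hom := prop_of_torsor P.isTorsor @IsProper inferInstance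
  have p2 : IsProper Q.X.hom := prop_of_torsor Q.isTorsor @IsProper inferInstance
  have f1 : Flat P.X.hom := flat_of_torsor P.isTorsor
  have f2 : Flat Q.X.hom := flat_of_torsor Q.isTorsor
  have s1 : Surjective P.X.hom := surjective_of_torsor P.isTorsor
  have s2 : Surjective ((Neron.genericFibre R).obj P.X).hom :=
    MorphismProperty.pullback_snd (P := @Surjective) P.X.hom (Neron.genPt R) s1
  have p3 : IsProper ((Neron.genericFibre R).obj P.X).hom :=
    MorphismProperty.pullback_snd (P := @IsProper) P.X.hom (Neron.genPt R) p1
  have n1 : Nonempty ((Neron.genericFibre R).obj P.X).left := by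
    obtain ⟨z, -⟩ := s2.surj (⊥ : PrimeSpectrum (FractionRing R))
    exact ⟨z⟩
  obtain ⟨K', _, _, _, q, hq⟩ := exists_finite_point ((Neron.genericFibre R).obj P.X).hom
  let _ : Algebra R K' := ((algebraMap (FractionRing R) K').comp (algebraMap R (FractionRing R))).toAlgebra
  have : IsScalarTower R (FractionRing R) K' := .of_algebraMap_eq fun _ => rfl
  have := isDedekindDomain R (FractionRing R) K'
  have := isFractionRing R (FractionRing R) K'
  let C : Over (Spec (CommRingCat.of R)) :=
    Over.mk (Spec.map (CommRingCat.ofHom (algebraMap R (integralClosure R K'))))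
  have c1 : Flat C.hom := flat R (FractionRing R) K'
  have c2 : Surjective C.hom := surjective R (FractionRing R) K'
  have c3 : QuasiCompact C.hom :=
    inferInstanceAs (QuasiCompact (Spec.map (CommRingCat.ofHom (algebraMap R (integralClosure R K')))))
  have hpb := isPullback R (FractionRing R) K'
  -- the point of `P`
  obtain ⟨x₀, hx1, hx2⟩ := Groth.Agent.Pi1.H396.ExtDedekind.exists_extension P.X.hom (integralClosure R K') K'
    C.hom (q ≫ genι P.X) (by
      rw [Category.assoc, (isPullback_genι P.X).w, reassoc_of% hq]
      exact hpb.w.symm)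
  let x : C ⟶ P.X := Over.homMk x₀ hx2
  -- the identification of the generic fibre of `C`
  let e : Spec (CommRingCat.of K') ⟶ ((Neron.genericFibre R).obj C).left :=
    pullback.lift (Spec.map (CommRingCat.ofHom (algebraMap (integralClosure R K') K')))
      (Spec.map (CommRingCat.ofHom (algebraMap (FractionRing R) K'))) hpb.w
  have he : IsIso e := by
    have h1 : e = (hpb.isoPullback).hom := by
      apply pullback.hom_ext
      · exact (pullback.lift_fst _ _ _).trans hpb.isoPullback_hom_fst.symm
      · exact (pullback.lift_snd _ _ _).trans hpb.isoPullback_hom_snd.symm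
    rw [h1]; infer_instance
  have he1 : e ≫ genι C = Spec.map (CommRingCat.ofHom (algebraMap (integralClosure R K') K')) :=
    pullback.lift_fst _ _ _
  have he2 : e ≫ ((Neron.genericFibre R).obj C).hom = Spec.map (CommRingCat.ofHom (algebraMap (FractionRing R) K')) :=
    pullback.lift_snd _ _ _
  let φ' : (Neron.genericFibre R).obj P.X ⟶ (Neron.genericFibre R).obj Q.X := φ.iso.hom
  obtain ⟨y₀, hy1, hy2⟩ := Groth.Agent.Pi1.H396.ExtDedekind.exists_extension Q.X.hom (integralClosure R K') K'
    C.hom (e ≫ ((Neron.genericFibre R).map x ≫ φ').left ≫ genι Q.X) (by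
      rw [Category.assoc, Category.assoc, (isPullback_genι Q.X).w]
      rw [Over.w_assoc, reassoc_of% he2]
      exact hpb.w.symm)
  let y : C ⟶ Q.X := Over.homMk y₀ hy2
  refine FibExt.nonempty_equivIso (C := C) P.isTorsor.1 Q.isTorsor.1 x y φ ?_
  ext1
  rw [← cancel_epi e]
  apply pullback.hom_ext
  · change (e ≫ ((Neron.genericFibre R).map y).left) ≫ genι Q.X = (e ≫ ((Neron.genericFibre R).map x ≫ φ').left) ≫ genι Q.X
    rw [Category.assoc, genι_naturality, reassoc_of% he1, Category.assoc]
    exact hy1
  · change (e ≫ ((Neron.genericFibre R).map y).left) ≫ ((Neron.genericFibre R).obj Q.X).hom =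
      (e ≫ ((Neron.genericFibre R).map x ≫ φ').left) ≫ ((Neron.genericFibre R).obj Q.X).hom
    rw [Category.assoc, Category.assoc, Over.w, Over.w]

end Main

end K553.DedExt
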