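import Groth.Agent.NonAbH1.K551.Tors
import Mathlib.AlgebraicGeometry.Morphisms.UniversallyInjective
import Mathlib.AlgebraicGeometry.Morphisms.FlatRank
import Mathlib.AlgebraicGeometry.Morphisms.FlatDescent
import Mathlib.FieldTheory.PurelyInseparable.Basic
import Mathlib.FieldTheory.PurelyInseparable.Exponent
import Mathlib.Topology.Separation.Connected

/-!
# Torsors under finite connected group schemes over a field
-/

set_option autoImplicit false
universe u

open CategoryTheory CategoryTheory.Limits MonoidalCategory CartesianMonoidalCategory MonObj GrpObj AlgebraicGeometry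

namespace K553.FinConn

section Top

variable (K : Type u) [Field K]

theorem subsingleton_of_finite_connected {Y : Scheme.{u}} (f : Y ⟶ Spec (CommRingCat.of K)) [IsFinite f]
    [ConnectedSpace Y] : Subsingleton Y := by
  let s : Spec (CommRingCat.of K) := (⊥ : PrimeSpectrum K)
  have h1 : _root_.IsDiscrete (f ⁻¹' {s}) := f.isDiscrete_preimage_singleton s
  have h2 : f ⁻¹' {s} = Set.univ := by
    ext y
    simp only [Set.mem_preimage, Set.mem_singleton_iff, Set.mem_univ, iff_true]
    exact Subsingleton.elim (α := PrimeSpectrum K) _ _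
  rw [h2] at h1
  have h3 : DiscreteTopology Y := isDiscrete_univ_iff.mp h1
  exact PreconnectedSpace.trivial_of_discrete

variable {K}
variable (G : Over (Spec (CommRingCat.of K))) [GrpObj G] [IsFinite G.hom] [ConnectedSpace G.left]

theorem surjective_one : Surjective (η[G] : 𝟙_ (Over (Spec (CommRingCat.of K))) ⟶ G).left := by
  have := subsingleton_of_finite_connected K G.hom
  constructor
  intro y
  refine ⟨(⊥ : PrimeSpectrum K), Subsingleton.elim _ _⟩

theorem universallyInjective_hom : UniversallyInjective G.hom := by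
  rw [UniversallyInjective.iff_diagonal]
  have h1 := surjective_one G
  let e : Spec (CommRingCat.of K) ⟶ G.left := (η[G] : 𝟙_ (Over (Spec (CommRingCat.of K))) ⟶ G).left
  have h1' : Surjective e := h1
  have he : e ≫ G.hom = 𝟙 _ := Over.w (η[G] : 𝟙_ (Over (Spec (CommRingCat.of K))) ⟶ G)
  -- `(e × 1)` is surjective
  have h2 : Surjective (pullback.lift (G.hom ≫ e) (𝟙 G.left) (by
      rw [Category.assoc, he]; simp) : G.left ⟶ pullback G.hom G.hom) := by
    have h3 : IsPullback (pullback.lift (G.hom ≫ e) (𝟙 G.left) (by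
        rw [Category.assoc, he]; simp) : G.left ⟶ pullback G.hom G.hom) G.hom
        (pullback.fst G.hom G.hom) e := by
      apply IsPullback.of_right (t := (IsPullback.of_hasPullback G.hom G.hom).flip) (h₁₂ := pullback.snd G.hom G.hom)
        (v₁₃ := G.hom) (h₂₂ := G.hom)
      · rw [pullback.lift_snd, he]
        exact IsPullback.of_id_fst
      · rw [pullback.lift_fst]
    exact MorphismProperty.of_isPullback (P := @Surjective) h3.flip h1'
  have h4 : Surjective (e ≫ pullback.lift (G.hom ≫ e) (𝟙 G.left) (by
      rw [Category.assoc, he]; simp) : Spec (CommRingCat.of K) ⟶ pullback G.hom G.hom) := inferInstance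
  have h5 : e ≫ pullback.lift (G.hom ≫ e) (𝟙 G.left) (by
      rw [Category.assoc, he]; simp) = e ≫ pullback.diagonal G.hom := by
    apply pullback.hom_ext
    · rw [Category.assoc, pullback.lift_fst, reassoc_of% he, Category.assoc, pullback.diagonal_fst, Category.comp_id]
    · rw [Category.assoc, pullback.lift_snd, Category.assoc, pullback.diagonal_snd]
  rw [h5] at h4
  exact Surjective.of_comp e (pullback.diagonal G.hom)

end Top

section Torsor

variable {K : Type u} [Field K] {G X : Over (Spec (CommRingCat.of K))} [GrpObj G] {a : AlgGrp.Action G X}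

theorem flat_of_field {Y : Scheme.{u}} (f : Y ⟶ Spec (CommRingCat.of K)) : Flat f := by
  have : IsIntegral (Spec (CommRingCat.of K)) := inferInstance
  infer_instance

/-- The degree of a torsor under a finite group scheme over a field. -/
theorem finrank_hom_eq [IsFinite G.hom] (ha : NonAbH1.IsTorsorFor Scheme.fppfPrecoverage a)
    (s : Spec (CommRingCat.of K)) : X.hom.finrank s = G.hom.finrank s := by
  have h1 : IsFinite X.hom := K551.Tors.isFinite_of_torsor ha
  have h2 : Surjective X.hom := K551.Tors.surjective_of_torsor ha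
  have h3 : Flat X.hom := flat_of_field _
  have h4 : Flat G.hom := flat_of_field _
  obtain ⟨x, hx⟩ := X.hom.surjective s
  have e1 : (snd X X).left = pullback.snd X.hom X.hom := rfl
  have e2 : (snd G X).left = pullback.snd G.hom X.hom := rfl
  have h5 : Scheme.Hom.finrank (snd X X).left x = X.hom.finrank s := by
    rw [e1, Scheme.Hom.finrank_pullback_snd, hx]
  have h6 : Scheme.Hom.finrank (snd G X).left x = G.hom.finrank s := by
    rw [e2, Scheme.Hom.finrank_pullback_snd, hx]
  have h7 : IsIso (lift a.act (snd G X)) := ha.1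
  have h8 : (lift a.act (snd G X)).left ≫ (snd X X).left = (snd G X).left := by
    rw [← Over.comp_left, lift_snd]
  have h9 : IsIso (lift a.act (snd G X)).left :=
    inferInstanceAs (IsIso ((Over.forget _).map (lift a.act (snd G X))))
  have h10 : Flat (snd X X).left := by rw [e1]; infer_instance
  have h11 : IsFinite (snd X X).left := by rw [e1]; infer_instance
  rw [← h5, ← h6, ← h8, Scheme.Hom.finrank_comp_left_of_isIso]

/-- A finite universally injective nonempty scheme over a field has a point over a purely inseparable extension of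
bounded degree. -/
theorem exists_residue {Y : Scheme.{u}} (f : Y ⟶ Spec (CommRingCat.of K)) [IsFinite f] [UniversallyInjective f]
    [Surjective f] :
    ∃ (κ : Type u) (_ : Field κ) (_ : Algebra K κ) (_ : IsPurelyInseparable K κ) (_ : FiniteDimensional K κ)
      (t : Spec (CommRingCat.of κ) ⟶ Y), t ≫ f = Spec.map (CommRingCat.ofHom (algebraMap K κ)) ∧
      Module.finrank K κ ≤ f.finrank (⊥ : PrimeSpectrum K) ∧
      ∀ (L : Type u) (_ : Field L) (y : Spec (CommRingCat.of L) ⟶ Y),
        ∃ ψ : κ →+* L, Spec.map (CommRingCat.ofHom ψ) ≫ t = y := by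
  have hY : IsAffine Y := isAffine_of_isAffineHom f
  obtain ⟨φ, hφ⟩ := Spec.map_surjective (Y.isoSpec.inv ≫ f)
  let A := Γ(Y, ⊤)
  let _ : Algebra K A := φ.hom.toAlgebra
  have hφ' : Spec.map (CommRingCat.ofHom (algebraMap K A)) = Y.isoSpec.inv ≫ f := hφ
  have h1 : IsFinite (Spec.map φ) := by rw [hφ]; infer_instance
  have h2 : Module.Finite K A := by
    rw [IsFinite.SpecMap_iff] at h1
    exact h1
  have h3 : Surjective (Spec.map φ) := by rw [hφ]; infer_instance
  obtain ⟨y, -⟩ := (Spec.map φ).surjective (⊥ : PrimeSpectrum K)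
  have h4 : Nontrivial A := by
    let y' : PrimeSpectrum A := y
    exact ⟨0, 1, fun h => y'.isPrime.ne_top ((Ideal.eq_top_iff_one _).mpr (h ▸ y'.asIdeal.zero_mem))⟩
  obtain ⟨m, hm⟩ := Ideal.exists_maximal A
  let _ : Field (A ⧸ m) := Ideal.Quotient.field m
  have h5 : FiniteDimensional K (A ⧸ m) := inferInstance
  let t : Spec (CommRingCat.of (A ⧸ m)) ⟶ Y :=
    Spec.map (CommRingCat.ofHom (Ideal.Quotient.mk m)) ≫ Y.isoSpec.inv
  have ht : t ≫ f = Spec.map (CommRingCat.ofHom (algebraMap K (A ⧸ m))) := by
    rw [Category.assoc, ← hφ', ← Spec.map_comp]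
    rfl
  have h6 : IsClosedImmersion (Spec.map (CommRingCat.ofHom (Ideal.Quotient.mk m))) :=
    IsClosedImmersion.spec_of_surjective _ Ideal.Quotient.mk_surjective
  have h7 : UniversallyInjective (t ≫ f) := by
    have : Mono t := inferInstance
    exact MorphismProperty.comp_mem @UniversallyInjective t f inferInstance inferInstance
  have h8 : IsPurelyInseparable K (A ⧸ m) := by
    rw [isPurelyInseparable_iff_subsingleton_emb]
    constructor
    intro g₁ g₂
    rw [ht] at h7
    have h9 := (tfae_universallyInjective (Spec.map (CommRingCat.ofHom (algebraMap K (A ⧸ m))))).out 0 1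
    have h10 := (h9.mp h7) (AlgebraicClosure (A ⧸ m))
    have h11 : Spec.map (CommRingCat.ofHom (g₁ : (A ⧸ m) →+* AlgebraicClosure (A ⧸ m))) =
        Spec.map (CommRingCat.ofHom (g₂ : (A ⧸ m) →+* AlgebraicClosure (A ⧸ m))) := by
      apply h10
      dsimp only
      rw [← Spec.map_comp, ← Spec.map_comp, ← CommRingCat.ofHom_comp, ← CommRingCat.ofHom_comp]
      congr 2
      rw [AlgHom.comp_algebraMap, AlgHom.comp_algebraMap]
    have h12 := congrArg CommRingCat.Hom.hom (Spec.map_injective h11)
    ext z
    exact congr($h12 z)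
  refine ⟨A ⧸ m, inferInstance, inferInstance, h8, h5, t, ht, ?_, ?_⟩
  swap
  · intro L _ y
    obtain ⟨ψ, hψ⟩ := Spec.map_surjective (y ≫ Y.isoSpec.hom)
    let ψ' : A →+* L := ψ.hom
    have h20 : RingHom.ker ψ' = m := by
      have h21 : Function.Injective (Spec.map φ) := by
        have : UniversallyInjective (Spec.map φ) := by
          rw [hφ]
          exact MorphismProperty.comp_mem @UniversallyInjective _ _ inferInstance inferInstance
        exact (Spec.map φ).injective
      have h22 : (RingHom.ker ψ').IsPrime := RingHom.ker_isPrime ψ'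
      have h23 : m.IsPrime := hm.isPrime
      have h24 : (⟨RingHom.ker ψ', h22⟩ : PrimeSpectrum A) = ⟨m, h23⟩ := by
        apply h21
        exact Subsingleton.elim (α := PrimeSpectrum K) _ _
      exact congrArg PrimeSpectrum.asIdeal h24
    refine ⟨Ideal.Quotient.lift m ψ' (fun a ha => by rw [← h20] at ha; exact ha), ?_⟩
    rw [← Category.assoc, Iso.comp_inv_eq, ← Spec.map_comp, ← hψ]
    rfl
  have h13 : f.finrank (⊥ : PrimeSpectrum K) = Module.finrank K A := by
    have h14 : Flat f := flat_of_field f
    rw [← Scheme.Hom.finrank_comp_left_of_isIso Y.isoSpec.inv, ← hφ', Scheme.Hom.finrank_SpecMap_algebraMap]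
    simp
  rw [h13]
  exact LinearMap.finrank_le_finrank_of_surjective (f := (Ideal.Quotient.mkₐ K m).toLinearMap)
    Ideal.Quotient.mk_surjective

variable [IsFinite G.hom] [ConnectedSpace G.left]

theorem exists_purelyInseparable_point (ha : NonAbH1.IsTorsorFor Scheme.fppfPrecoverage a) :
    ∃ (κ : Type u) (_ : Field κ) (_ : Algebra K κ) (_ : IsPurelyInseparable K κ) (_ : FiniteDimensional K κ),
      NonAbH1.HasSectionOver X (Spec.map (CommRingCat.ofHom (algebraMap K κ))) ∧
      Module.finrank K κ ≤ G.hom.finrank (⊥ : PrimeSpectrum K) ∧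
      ∀ (L : Type u) (_ : Field L) (_ : Algebra K L),
        NonAbH1.HasSectionOver X (Spec.map (CommRingCat.ofHom (algebraMap K L))) → Nonempty (κ →ₐ[K] L) := by
  have h1 : IsFinite X.hom := K551.Tors.isFinite_of_torsor ha
  have h2 : Surjective X.hom := K551.Tors.surjective_of_torsor ha
  have h3 : UniversallyInjective X.hom :=
    K551.Tors.prop_of_torsor ha @UniversallyInjective (universallyInjective_hom G)
  obtain ⟨κ, i1, i2, i3, i4, t, ht, hd, hu⟩ := exists_residue X.hom
  rw [finrank_hom_eq ha] at hd
  refine ⟨κ, i1, i2, i3, i4, ⟨t, ht⟩, hd, fun L _ _ ⟨y, hy⟩ => ?_⟩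
  obtain ⟨ψ, hψ⟩ := hu L inferInstance y
  refine ⟨{ ψ with commutes' := fun r => ?_ }⟩
  rw [← hψ, Category.assoc, ht, ← Spec.map_comp, ← CommRingCat.ofHom_comp] at hy
  exact congr($(congrArg CommRingCat.Hom.hom (Spec.map_injective hy)) r)

theorem isLocallyTrivialFor_fppf_of_etale {S : Scheme.{u}} {X : Over S}
    (h : NonAbH1.IsLocallyTrivialFor Scheme.etalePrecoverage X) :
    NonAbH1.IsLocallyTrivialFor Scheme.fppfPrecoverage X := by
  obtain ⟨R, hR, h2⟩ := h
  refine ⟨R, ?_, h2⟩
  have h3 : R ∈ Scheme.precoverage @Etale S := hR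
  have h4 : R ∈ Scheme.precoverage (@Flat ⊓ @LocallyOfFinitePresentation : MorphismProperty Scheme.{u}) S :=
    ⟨h3.1, fun _ _ hf => ⟨by have : Etale _ := h3.2 hf; infer_instance,
      by have : Etale _ := h3.2 hf; infer_instance⟩⟩
  exact h4

end Torsor

theorem exponent_le {K L : Type u} [Field K] [Field L] [Algebra K L] [IsPurelyInseparable K L] [FiniteDimensional K L]
    {n : ℕ} (hn : Module.finrank K L ≤ n) : IsPurelyInseparable.exponent K L ≤ n := by
  by_contra h
  push Not at h
  obtain ⟨p, hp⟩ := ExpChar.exists K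
  obtain ⟨a, ha⟩ := IsPurelyInseparable.exponent_min' p h
  apply ha
  have h1 : IsPurelyInseparable.elemExponent K a ≤ n := by
    rcases ‹ExpChar K p› with _ | ⟨hp⟩
    · rw [IsPurelyInseparable.elemExponent_eq_zero_of_charZero]
      exact Nat.zero_le _
    · have h2 := IsPurelyInseparable.minpoly_natDegree_eq' K p a
      have h3 : (minpoly K a).natDegree ≤ Module.finrank K L := minpoly.natDegree_le a
      have h4 := Nat.lt_pow_self hp.one_lt (n := IsPurelyInseparable.elemExponent K a)
      omega
  have h2 := IsPurelyInseparable.elemExponent_def' K p a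
  have h3 : a ^ p ^ n = (a ^ p ^ IsPurelyInseparable.elemExponent K a) ^
      p ^ (n - IsPurelyInseparable.elemExponent K a) := by
    rw [← pow_mul, ← pow_add, Nat.add_sub_cancel' h1]
  rw [h3]
  exact Subring.pow_mem _ h2 _

end K553.FinConn
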