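import Groth.Prelude.Def_ActBC
import Groth.Prelude.Def_NonAbH2

/-!
# Restriction of torsors along isomorphisms of groups, base change bookkeeping
-/

set_option autoImplicit false
universe u

open CategoryTheory CategoryTheory.Limits MonoidalCategory CartesianMonoidalCategory MonObj GrpObj AlgebraicGeometry

namespace K553.Bc

variable {S : Scheme.{u}} {G H H' X : Over S} [GrpObj G] [GrpObj H] [GrpObj H']

/-- Restricting the action of a pseudo-torsor along an isomorphism of groups. -/
theorem isPseudoTorsorSch_restrict {a : AlgGrp.Action G X} (h : NonAbH1.IsPseudoTorsorSch a) (φ : H ⟶ G) [IsMonHom φ]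
    [IsIso φ] : NonAbH1.IsPseudoTorsorSch (a.restrict φ) := by
  have h1 : IsIso (lift a.act (snd G X)) := h
  have h2 : lift (a.restrict φ).act (snd H X) = (φ ▷ X) ≫ lift a.act (snd G X) := by
    rw [comp_lift]
    congr 1
    rw [whiskerRight_snd]
  have h3 : IsIso (lift (a.restrict φ).act (snd H X)) := by
    rw [h2]; infer_instance
  exact h3

theorem isTorsorFor_restrict {K : Precoverage Scheme.{u}} {a : AlgGrp.Action G X} (h : NonAbH1.IsTorsorFor K a)
    (φ : H ⟶ G) [IsMonHom φ] [IsIso φ] : NonAbH1.IsTorsorFor K (a.restrict φ) :=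
  ⟨isPseudoTorsorSch_restrict h.1 φ, h.2⟩

/-- restriction of an equivariant isomorphism along a homomorphism of groups -/
def equivIsoRestrict {X' : Over S} {a : AlgGrp.Action G X} {a' : AlgGrp.Action G X'} (e : NonAbH1.EquivIso a a')
    (φ : H ⟶ G) [IsMonHom φ] : NonAbH1.EquivIso (a.restrict φ) (a'.restrict φ) where
  iso := e.iso
  comm := by
    rw [AlgGrp.Action.restrict_act, AlgGrp.Action.restrict_act, Category.assoc, e.comm, ← whisker_exchange_assoc]

theorem restrict_restrict (a : AlgGrp.Action G X) (φ : H ⟶ G) [IsMonHom φ] (ψ : H' ⟶ H) [IsMonHom ψ] :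
    (a.restrict φ).restrict ψ = a.restrict (ψ ≫ φ) :=
  AlgGrp.Action.ext' (by
    rw [AlgGrp.Action.restrict_act, AlgGrp.Action.restrict_act, AlgGrp.Action.restrict_act, comp_whiskerRight,
      Category.assoc])

theorem restrict_congr (a : AlgGrp.Action G X) {φ ψ : H ⟶ G} [IsMonHom φ] [IsMonHom ψ] (h : φ = ψ) :
    a.restrict φ = a.restrict ψ :=
  AlgGrp.Action.ext' (by
    rw [AlgGrp.Action.restrict_act, AlgGrp.Action.restrict_act, h])

section Comp

variable {S₁ S₂ S₃ : Scheme.{u}}

/-- Coherence of the canonical identifications of iterated base changes. -/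
theorem bcCompIso_assoc (f : S₃ ⟶ S₂) (g : S₂ ⟶ S₁) (h : S₁ ⟶ S) {gh : S₂ ⟶ S} {fg : S₃ ⟶ S₁} {fgh : S₃ ⟶ S}
    (X : Over S) (hgh : g ≫ h = gh) (hfg : f ≫ g = fg) (h1 : f ≫ gh = fgh) (h2 : fg ≫ h = fgh) :
    (ActBC.bcCompIso f g (Red.bc h X) hfg).hom ≫ (ActBC.bcCompIso fg h X h2).hom =
      (Over.pullback f).map (ActBC.bcCompIso g h X hgh).hom ≫ (ActBC.bcCompIso f gh X h1).hom := by
  ext
  apply pullback.hom_ext
  · simp only [Over.comp_left, Category.assoc, ActBC.bcCompIso_hom_left_fst, ActBC.bcCompIso_hom_left_fst_assoc,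
      ActBC.pullback_map_left_fst_assoc]
  · exact (Over.w _).trans (Over.w _).symm

end Comp

end K553.Bc
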