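import Groth.Agent.NonAbH1.K551.Tors
import Groth.Agent.Dix.GenExtUniq
import Groth.Agent.Ega4dB.QuotAction

/-!
# Extending isomorphisms of torsors from the generic fibre, after a faithfully flat base change
-/

set_option autoImplicit false
universe u

open CategoryTheory CategoryTheory.Limits MonoidalCategory CartesianMonoidalCategory MonObj GrpObj AlgebraicGeometry
open Groth.Agent.Books.BorelOrb K551.Tors
open Groth.Agent.Dix.GenFibre Groth.Agent.Dix.GenExtUniq

namespace K553.FibExt

section Bc

variable {S S' : Scheme.{u}} (c : S' ⟶ S) {G X : Over S} [GrpObj G] {a : AlgGrp.Action G X}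

/-- base change of the action on points -/
theorem map_sm (a : AlgGrp.Action G X) {Y : Over S} (g : Y ⟶ G) (x : Y ⟶ X) :
    (Over.pullback c).map (sm a g x) = sm (a.bc c) ((Over.pullback c).map g) ((Over.pullback c).map x) := by
  rw [sm, sm, AlgGrp.Action.bc_act, Functor.Monoidal.lift_μ_assoc, ← Functor.map_comp]

/-- base change of the transporter -/
theorem map_dif (ha : NonAbH1.IsPseudoTorsorSch a) {Y : Over S} (x x' : Y ⟶ X) :
    (Over.pullback c).map (dif ha x x') =
      dif (NonAbH1.isPseudoTorsorSch_bc c ha) ((Over.pullback c).map x) ((Over.pullback c).map x') :=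
  (dif_eq _ (by rw [← map_sm, sm_dif])).symm

end Bc

section Desc

variable {R : Type u} [CommRing R] [IsDomain R]

/-- Descent of an extension of a morphism of generic fibres along a faithfully flat morphism. -/
theorem exists_ext {P P' Q : Over (Spec (CommRingCat.of R))} [Flat P.hom] [IsSeparated Q.hom]
    (f : P' ⟶ P) [Flat f.left] [Surjective f.left] [QuasiCompact f.left]
    (φ : (Neron.genericFibre R).obj P ⟶ (Neron.genericFibre R).obj Q) (e : P' ⟶ Q)
    (he : (Neron.genericFibre R).map e = (Neron.genericFibre R).map f ≫ φ) :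
    ∃ ψ : P ⟶ Q, f ≫ ψ = e ∧ (Neron.genericFibre R).map ψ = φ := by
  have hf : EffectiveEpi f.left := inferInstance
  obtain ⟨ψ, hψ⟩ := Groth.Agent.Ega4dB.QuotAction.over_desc f e (by
    intro T g₁ g₂ hg
    have h1 : pullback.fst f f ≫ e = pullback.snd f f ≫ e := by
      have h2 : Flat (pullback f f).hom := by
        have h3 : Flat (pullback.fst f f).left := by
          have h4 : IsPullback (pullback.fst f f).left (pullback.snd f f).left f.left f.left :=
            (IsPullback.of_hasPullback f f).map (Over.forget _)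
          exact MorphismProperty.of_isPullback (P := @Flat) h4.flip inferInstance
        have h5 : Flat P'.hom := by
          rw [← Over.w f]; infer_instance
        rw [← Over.w (pullback.fst f f)]
        infer_instance
      apply ext_of_genericFibre
      rw [Functor.map_comp, Functor.map_comp, he, ← Functor.map_comp_assoc, ← Functor.map_comp_assoc,
        pullback.condition]
    calc g₁ ≫ e = pullback.lift g₁ g₂ hg ≫ pullback.fst f f ≫ e := by
          rw [← Category.assoc, pullback.lift_fst]
      _ = pullback.lift g₁ g₂ hg ≫ pullback.snd f f ≫ e := by rw [h1]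
      _ = g₂ ≫ e := by rw [← Category.assoc, pullback.lift_snd])
  refine ⟨ψ, hψ, ?_⟩
  have h1 : Epi ((Neron.genericFibre R).map f) := by
    have h4 : IsPullback ((Neron.genericFibre R).map f).left (genι P') (genι P) f.left := by
      have h5 : IsPullback (genι P) ((Neron.genericFibre R).obj P).hom P.hom (Neron.genPt R) := isPullback_genι P
      have h6 : IsPullback (genι P') ((Neron.genericFibre R).obj P').hom P'.hom (Neron.genPt R) := isPullback_genι P'
      have h7 : ((Neron.genericFibre R).map f).left ≫ ((Neron.genericFibre R).obj P).hom =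
        ((Neron.genericFibre R).obj P').hom := Over.w _
      refine (IsPullback.of_bot (h₁₁ := genι P') (h₂₁ := genι P) (h₃₁ := Neron.genPt R)
        (v₁₁ := ((Neron.genericFibre R).map f).left) (v₂₁ := ((Neron.genericFibre R).obj P).hom)
        (v₁₂ := f.left) (v₂₂ := P.hom) ?_ (genι_naturality f).symm h5).flip
      rw [h7, Over.w]
      exact h6
    have h8 : Flat ((Neron.genericFibre R).map f).left := MorphismProperty.of_isPullback (P := @Flat) h4.flip inferInstance
    have h9 : Surjective ((Neron.genericFibre R).map f).left :=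
      MorphismProperty.of_isPullback (P := @Surjective) h4.flip inferInstance
    have h10 : QuasiCompact ((Neron.genericFibre R).map f).left :=
      MorphismProperty.of_isPullback (P := @QuasiCompact) h4.flip inferInstance
    have h11 : Epi ((Neron.genericFibre R).map f).left := inferInstance
    exact (Over.forget _).epi_of_epi_map h11
  rw [← cancel_epi ((Neron.genericFibre R).map f), ← Functor.map_comp, hψ, he]

variable {G P Q C : Over (Spec (CommRingCat.of R))} [GrpObj G] {a : AlgGrp.Action G P} {b : AlgGrp.Action G Q}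

/-- An equivariant morphism of generic fibres of pseudo-torsors `P`, `Q` extends if there is a faithfully flat
quasi-compact `C ⟶ Spec R` and points of `P` and `Q` over `C` corresponding to each other on the generic fibre. -/
theorem exists_ext_of_points [Flat P.hom] [IsSeparated Q.hom] (ha : NonAbH1.IsPseudoTorsorSch a)
    [Flat C.hom] [Surjective C.hom] [QuasiCompact C.hom] (x : C ⟶ P) (y : C ⟶ Q)
    (φ : (Neron.genericFibre R).obj P ⟶ (Neron.genericFibre R).obj Q)
    (hφ : (a.bc (Neron.genPt R)).act ≫ φ = (_ ◁ φ) ≫ (b.bc (Neron.genPt R)).act)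
    (hxy : (Neron.genericFibre R).map y = (Neron.genericFibre R).map x ≫ φ) :
    ∃ ψ : P ⟶ Q, (Neron.genericFibre R).map ψ = φ := by
  have h1 : Flat (fst P C).left := MorphismProperty.pullback_fst (P := @Flat) P.hom C.hom inferInstance
  have h2 : Surjective (fst P C).left := MorphismProperty.pullback_fst (P := @Surjective) P.hom C.hom inferInstance
  have h3 : QuasiCompact (fst P C).left := MorphismProperty.pullback_fst (P := @QuasiCompact) P.hom C.hom inferInstance
  have hφ' : ∀ {T : Over (Spec (CommRingCat.of (FractionRing R)))} (g : T ⟶ Red.bc (Neron.genPt R) G)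
      (p : T ⟶ Red.bc (Neron.genPt R) P), sm (a.bc (Neron.genPt R)) g p ≫ φ = sm (b.bc (Neron.genPt R)) g (p ≫ φ) := by
    intro T g p
    rw [sm, sm, Category.assoc, hφ, ← Category.assoc]
    congr 1
    apply CartesianMonoidalCategory.hom_ext <;> simp
  obtain ⟨ψ, -, h4⟩ := exists_ext (fst P C) φ (sm b (dif ha (fst P C) (snd P C ≫ x)) (snd P C ≫ y)) (by
    rw [map_sm, map_dif, Functor.map_comp, Functor.map_comp, hxy, ← Category.assoc, ← hφ']
    congr 1
    exact sm_dif _ _ _)
  exact ⟨ψ, h4⟩

/-- Two flat separated pseudo-torsors whose generic fibres are isomorphic are isomorphic if the isomorphism of generic fibres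
matches points over a faithfully flat quasi-compact `C ⟶ Spec R`. -/
theorem nonempty_equivIso [Flat G.hom] [Flat P.hom] [IsSeparated P.hom] [Flat Q.hom] [IsSeparated Q.hom]
    (ha : NonAbH1.IsPseudoTorsorSch a) (hb : NonAbH1.IsPseudoTorsorSch b)
    [Flat C.hom] [Surjective C.hom] [QuasiCompact C.hom] (x : C ⟶ P) (y : C ⟶ Q)
    (φ : NonAbH1.EquivIso (a.bc (Neron.genPt R)) (b.bc (Neron.genPt R)))
    (hxy : (Neron.genericFibre R).map y = (Neron.genericFibre R).map x ≫ φ.iso.hom) :
    ∃ ψ : NonAbH1.EquivIso a b, (Neron.genericFibre R).map ψ.iso.hom = φ.iso.hom := by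
  obtain ⟨ψ, hψ⟩ := exists_ext_of_points (b := b) ha x y φ.iso.hom φ.comm hxy
  obtain ⟨ψ', hψ'⟩ := exists_ext_of_points (b := a) hb y x φ.iso.inv (equivIsoSymm φ).comm (by
    rw [hxy, Category.assoc, Iso.hom_inv_id, Category.comp_id])
  have hc : a.act ≫ ψ = (G ◁ ψ) ≫ b.act := by
    have h1 : Flat (G ⊗ P).hom := by
      have h2 : (G ⊗ P).hom = pullback.snd G.hom P.hom ≫ P.hom := (Over.w (snd G P)).symm
      rw [h2]
      have h3 : Flat (pullback.snd G.hom P.hom) := MorphismProperty.pullback_snd (P := @Flat) _ _ inferInstance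
      infer_instance
    apply ext_of_genericFibre
    have h2 := φ.comm
    rw [AlgGrp.Action.bc_act, AlgGrp.Action.bc_act, Category.assoc] at h2
    rw [← cancel_epi (Functor.LaxMonoidal.μ (Over.pullback (Neron.genPt R)) G P)]
    change Functor.LaxMonoidal.μ (Over.pullback (Neron.genPt R)) G P ≫ (Over.pullback (Neron.genPt R)).map _ =
      Functor.LaxMonoidal.μ (Over.pullback (Neron.genPt R)) G P ≫ (Over.pullback (Neron.genPt R)).map _
    rw [Functor.map_comp, Functor.map_comp, ← Functor.LaxMonoidal.μ_natural_right_assoc]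
    have hψ0 : (Over.pullback (Neron.genPt R)).map ψ = φ.iso.hom := hψ
    rw [hψ0]
    exact h2
  refine ⟨⟨⟨ψ, ψ', ?_, ?_⟩, hc⟩, hψ⟩
  · apply ext_of_genericFibre
    rw [Functor.map_comp, hψ, hψ', Iso.hom_inv_id, CategoryTheory.Functor.map_id]
  · apply ext_of_genericFibre
    rw [Functor.map_comp, hψ, hψ', Iso.inv_hom_id, CategoryTheory.Functor.map_id]

end Desc

section Quot

variable {S : Scheme.{u}} {G : Over S} [GrpObj G] {K : Precoverage Scheme.{u}}

/-- Equality of classes in `H¹` means existence of an equivariant isomorphism. -/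
theorem cl_eq_iff (P Q : NonAbH1.TorsorSch G K) : P.cl = Q.cl ↔ Nonempty (NonAbH1.EquivIso P.act Q.act) := by
  constructor
  · intro h
    have h1 := Quot.eqvGen_exact h
    clear h
    induction h1 with
    | rel _ _ h => exact h
    | refl _ => exact ⟨equivIsoRefl _⟩
    | symm _ _ _ ih =>
      obtain ⟨e⟩ := ih
      exact ⟨equivIsoSymm e⟩
    | trans _ _ _ _ _ ih1 ih2 =>
      obtain ⟨e1⟩ := ih1
      obtain ⟨e2⟩ := ih2
      exact ⟨equivIsoTrans e1 e2⟩
  · exact fun h => Quot.sound h

/-- Injectivity of the base change map on `H¹`, in terms of torsors. -/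
theorem bcMap_injective {S' : Scheme.{u}} (f : S' ⟶ S) [K.IsStableUnderBaseChange]
    (h : ∀ P Q : NonAbH1.TorsorSch G K, Nonempty (NonAbH1.EquivIso (P.act.bc f) (Q.act.bc f)) →
      Nonempty (NonAbH1.EquivIso P.act Q.act)) :
    Function.Injective (NonAbH1.H1Sch.bcMap f G K) := by
  intro p q hpq
  obtain ⟨P, rfl⟩ := Quot.exists_rep p
  obtain ⟨Q, rfl⟩ := Quot.exists_rep q
  exact (cl_eq_iff P Q).mpr (h P Q ((cl_eq_iff (P.bc f) (Q.bc f)).mp hpq))

end Quot

end K553.FibExt
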