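import Groth.Agent.NonAbH1.K553.Sp

/-!
# Cocycles of `B / A` with values in a group scheme, and their trivialisations

For `c : Spec (B ⊗ B) ⟶ X`, `cc c j₁ j₂` is the value of `c` at a pair of `T`-points of `Spec B`; a
trivialisation over `T` is `x : Spec (T ⊗ B) ⟶ X` with `x(f, j₁) = c(j₁, j₂) x(f, j₂)`.
-/

set_option autoImplicit false
universe u

open CategoryTheory CategoryTheory.Limits MonoidalCategory CartesianMonoidalCategory MonObj AlgebraicGeometry
open scoped TensorProduct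

namespace K553.Coc

open K553.Sp

variable {A : Type u} [CommRing A] {B : Type u} [CommRing B] [Algebra A B]
  {X : Over (Spec (CommRingCat.of A))} [GrpObj X]

/-- The homomorphism out of a tensor product. -/
noncomputable abbrev tl {T B T' : Type u} [CommRing T] [Algebra A T] [CommRing B] [Algebra A B] [CommRing T'] [Algebra A T']
    (f : T →ₐ[A] T') (j : B →ₐ[A] T') : T ⊗[A] B →ₐ[A] T' :=
  Algebra.TensorProduct.lift f j (fun _ _ => Commute.all _ _)

section tl

variable {T B T' T'' : Type u} [CommRing T] [Algebra A T] [CommRing B] [Algebra A B] [CommRing T'] [Algebra A T']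
  [CommRing T''] [Algebra A T'']

lemma tl_comp_left (f : T →ₐ[A] T') (j : B →ₐ[A] T') : (tl f j).comp Algebra.TensorProduct.includeLeft = f := by
  ext; simp

lemma tl_comp_right (f : T →ₐ[A] T') (j : B →ₐ[A] T') : (tl f j).comp Algebra.TensorProduct.includeRight = j := by
  ext; simp

lemma comp_tl (g : T' →ₐ[A] T'') (f : T →ₐ[A] T') (j : B →ₐ[A] T') : g.comp (tl f j) = tl (g.comp f) (g.comp j) := by
  ext <;> simp

lemma eq_tl (h : T ⊗[A] B →ₐ[A] T') :
    h = tl (h.comp Algebra.TensorProduct.includeLeft) (h.comp Algebra.TensorProduct.includeRight) := by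
  ext <;> simp

lemma tl_comp_map {T₀ B₀ : Type u} [CommRing T₀] [Algebra A T₀] [CommRing B₀] [Algebra A B₀]
    (f : T →ₐ[A] T') (j : B →ₐ[A] T') (g : T₀ →ₐ[A] T) (k : B₀ →ₐ[A] B) :
    (tl f j).comp (Algebra.TensorProduct.map g k) = tl (f.comp g) (j.comp k) := by
  ext <;> simp

end tl

variable (c : sp A (B ⊗[A] B) ⟶ X)

/-- the value of `c` at a pair of points -/
noncomputable def cc {T : Type u} [CommRing T] [Algebra A T] (j₁ j₂ : B →ₐ[A] T) : sp A T ⟶ X :=
  smap (tl j₁ j₂) ≫ c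

variable {T T' T'' : Type u} [CommRing T] [Algebra A T] [CommRing T'] [Algebra A T'] [CommRing T''] [Algebra A T'']

/-- the value of `x` at a point -/
noncomputable def pt (x : sp A (T ⊗[A] B) ⟶ X) (f : T →ₐ[A] T') (j : B →ₐ[A] T') : sp A T' ⟶ X :=
  smap (tl f j) ≫ x

omit [GrpObj X] in
lemma smap_cc (g : T →ₐ[A] T') (j₁ j₂ : B →ₐ[A] T) : smap g ≫ cc c j₁ j₂ = cc c (g.comp j₁) (g.comp j₂) := by
  rw [cc, smap_comp_smap_assoc, comp_tl, cc]

omit [GrpObj X] in
lemma smap_pt (x : sp A (T ⊗[A] B) ⟶ X) (g : T' →ₐ[A] T'') (f : T →ₐ[A] T') (j : B →ₐ[A] T') :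
    smap g ≫ pt x f j = pt x (g.comp f) (g.comp j) := by
  rw [pt, smap_comp_smap_assoc, comp_tl, pt]

omit [GrpObj X] in
lemma pt_include (x : sp A (T ⊗[A] B) ⟶ X) :
    pt x Algebra.TensorProduct.includeLeft Algebra.TensorProduct.includeRight = x := by
  have : tl (A := A) (T := T) (B := B) Algebra.TensorProduct.includeLeft Algebra.TensorProduct.includeRight =
      AlgHom.id A _ := by ext <;> simp
  rw [pt, this, smap_id, Category.id_comp]

omit [GrpObj X] in
lemma pt_map (x : sp A (T ⊗[A] B) ⟶ X) (g : T →ₐ[A] T') (f : T' →ₐ[A] T'') (j : B →ₐ[A] T'') :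
    pt (smap (Algebra.TensorProduct.map g (AlgHom.id A B)) ≫ x) f j = pt x (f.comp g) j := by
  rw [pt, smap_comp_smap_assoc, tl_comp_map, AlgHom.comp_id, pt]

/-- the cocycle condition -/
def IsCocycle : Prop := ∀ (T : Type u) [CommRing T] [Algebra A T] (j₁ j₂ j₃ : B →ₐ[A] T),
  cc c j₁ j₃ = cc c j₁ j₂ * cc c j₂ j₃

variable {c} in
lemma IsCocycle.self (hc : IsCocycle c) (j : B →ₐ[A] T) : cc c j j = 1 := by
  have h := hc T j j j
  exact left_eq_mul.1 h

/-- trivialisations of the cocycle over `T` -/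
def IsSol (x : sp A (T ⊗[A] B) ⟶ X) : Prop :=
  ∀ (T' : Type u) [CommRing T'] [Algebra A T'] (f : T →ₐ[A] T') (j₁ j₂ : B →ₐ[A] T'),
    pt x f j₁ = cc c j₁ j₂ * pt x f j₂

/-- the first universal point -/
noncomputable def i₁ (A B T : Type u) [CommRing A] [CommRing B] [Algebra A B] [CommRing T] [Algebra A T] :
    B →ₐ[A] T ⊗[A] (B ⊗[A] B) :=
  (Algebra.TensorProduct.includeRight : (B ⊗[A] B) →ₐ[A] T ⊗[A] (B ⊗[A] B)).comp Algebra.TensorProduct.includeLeft

/-- the second universal point -/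
noncomputable def i₂ (A B T : Type u) [CommRing A] [CommRing B] [Algebra A B] [CommRing T] [Algebra A T] :
    B →ₐ[A] T ⊗[A] (B ⊗[A] B) :=
  (Algebra.TensorProduct.includeRight : (B ⊗[A] B) →ₐ[A] T ⊗[A] (B ⊗[A] B)).comp Algebra.TensorProduct.includeRight

/-- the base of the universal pair -/
noncomputable abbrev i₀ (A B T : Type u) [CommRing A] [CommRing B] [Algebra A B] [CommRing T] [Algebra A T] :
    T →ₐ[A] T ⊗[A] (B ⊗[A] B) := Algebra.TensorProduct.includeLeft

lemma isSol_iff (x : sp A (T ⊗[A] B) ⟶ X) :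
    IsSol c x ↔ pt x (i₀ A B T) (i₁ A B T) = cc c (i₁ A B T) (i₂ A B T) * pt x (i₀ A B T) (i₂ A B T) := by
  constructor
  · intro h; exact h _ _ _ _
  · intro h T' _ _ f j₁ j₂
    let g : T ⊗[A] (B ⊗[A] B) →ₐ[A] T' := tl f (tl j₁ j₂)
    have e0 : g.comp (i₀ A B T) = f := tl_comp_left _ _
    have e1 : g.comp (i₁ A B T) = j₁ := by
      rw [i₁, ← AlgHom.comp_assoc, tl_comp_right, tl_comp_left]
    have e2 : g.comp (i₂ A B T) = j₂ := by
      rw [i₂, ← AlgHom.comp_assoc, tl_comp_right, tl_comp_right]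
    have h1 := congrArg (smap g ≫ ·) h
    simp only [MonObj.comp_mul, smap_pt, smap_cc, e0, e1, e2] at h1
    exact h1

lemma IsSol.map {x : sp A (T ⊗[A] B) ⟶ X} (hx : IsSol c x) (g : T →ₐ[A] T') :
    IsSol c (smap (Algebra.TensorProduct.map g (AlgHom.id A B)) ≫ x) := by
  intro T₁ _ _ f j₁ j₂
  rw [pt_map, pt_map]
  exact hx _ _ _ _

/-- the trivialisation attached to a point, when `T` is a `B`-algebra -/
noncomputable def sol (t : B →ₐ[A] T) (y : sp A T ⟶ X) : sp A (T ⊗[A] B) ⟶ X :=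
  cc c Algebra.TensorProduct.includeRight (Algebra.TensorProduct.includeLeft.comp t) *
    (smap Algebra.TensorProduct.includeLeft ≫ y)

lemma pt_sol (t : B →ₐ[A] T) (y : sp A T ⟶ X) (f : T →ₐ[A] T') (j : B →ₐ[A] T') :
    pt (sol c t y) f j = cc c j (f.comp t) * (smap f ≫ y) := by
  rw [pt, sol, MonObj.comp_mul, smap_cc, smap_comp_smap_assoc, tl_comp_left, tl_comp_right, ← AlgHom.comp_assoc,
    tl_comp_left]

variable {c} in
lemma isSol_sol (hc : IsCocycle c) (t : B →ₐ[A] T) (y : sp A T ⟶ X) : IsSol c (sol c t y) := by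
  intro T' _ _ f j₁ j₂
  rw [pt_sol, pt_sol, hc T' j₁ j₂ (f.comp t), _root_.mul_assoc]

variable {c} in
lemma IsSol.eq_sol {x : sp A (T ⊗[A] B) ⟶ X} (hx : IsSol c x) (t : B →ₐ[A] T) :
    x = sol c t (pt x (AlgHom.id A T) t) := by
  conv_lhs => rw [← pt_include x]
  rw [hx _ _ _ ((Algebra.TensorProduct.includeLeft : T →ₐ[A] T ⊗[A] B).comp t), sol, smap_pt, AlgHom.comp_id]

lemma smap_sol (g : T →ₐ[A] T') (t : B →ₐ[A] T) (y : sp A T ⟶ X) :
    smap (Algebra.TensorProduct.map g (AlgHom.id A B)) ≫ sol c t y = sol c (g.comp t) (smap g ≫ y) := by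
  have h := pt_include (smap (Algebra.TensorProduct.map g (AlgHom.id A B)) ≫ sol c t y)
  rw [pt_map, pt_sol] at h
  rw [← h, sol, AlgHom.comp_assoc, smap_comp_smap_assoc]

end K553.Coc
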