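import Groth.Agent.NonAbH1.K553.CocSmooth
import Groth.Agent.Sga3B.MT.EtSec

/-!
# Cocycles of radicial finite free algebras with values in smooth groups are étale locally trivial
-/

set_option autoImplicit false
universe u

open CategoryTheory CategoryTheory.Limits MonoidalCategory CartesianMonoidalCategory MonObj AlgebraicGeometry
open scoped TensorProduct

namespace K553.CocCore

open K553.Sp K553.Coc

/-- Affine charts of a smooth scheme over an affine base. -/
theorem exists_chart {A : Type u} [CommRing A] (X : Over (Spec (CommRingCat.of A))) [Smooth X.hom] (x : X.left) :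
    ∃ (C : Type u) (_ : CommRing C) (_ : Algebra A C) (_ : Algebra.Smooth A C) (jo : sp A C ⟶ X),
      IsOpenImmersion jo.left ∧ x ∈ Set.range jo.left := by
  obtain ⟨_, ⟨U, hU, rfl⟩, hxU, -⟩ := X.left.isBasis_affineOpens.exists_subset_of_mem_open
    (Set.mem_univ x) isOpen_univ
  have hU : IsAffineOpen U := hU
  rw [← hU.range_fromSpec] at hxU
  obtain ⟨ψ, hψ⟩ := Spec.map_surjective (hU.fromSpec ≫ X.hom)
  have hsm : Smooth (Spec.map ψ) := by
    rw [hψ]; infer_instance
  have hψs : ψ.hom.Smooth := HasRingHomProperty.Spec_iff.mp hsm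
  let _ : Algebra A Γ(X.left, U) := ψ.hom.toAlgebra
  refine ⟨Γ(X.left, U), inferInstance, inferInstance, hψs, Over.homMk hU.fromSpec hψ.symm, ?_, hxU⟩
  change IsOpenImmersion hU.fromSpec
  infer_instance

variable {A : Type u} [CommRing A] {B : Type u} [CommRing B] [Algebra A B]
  {X : Over (Spec (CommRingCat.of A))} [GrpObj X]

/-- the unit section at a point with values in a domain -/
lemma one_left_apply {T T' : Type u} [CommRing T] [Algebra A T] [CommRing T'] [Algebra A T'] (g : T →ₐ[A] T')
    (P : PrimeSpectrum T') :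
    ((1 : sp A T' ⟶ X)).left P = ((1 : sp A T ⟶ X)).left (P.comap g.toRingHom) := by
  have h : smap g ≫ (1 : sp A T ⟶ X) = 1 := MonObj.comp_one _
  rw [← h]
  rfl

theorem exists_sol [IsNoetherianRing A] [Module.Finite A B] [Module.Free A B] [IsSeparated X.hom] [Smooth X.hom]
    {c : sp A (B ⊗[A] B) ⟶ X} (hc : IsCocycle c) (m : PrimeSpectrum A)
    (hB : ∀ (L : Type u) [Field L] [Algebra A L], RingHom.ker (algebraMap A L) = m.asIdeal →
      ∀ j₁ j₂ : B →ₐ[A] L, j₁ = j₂)
    (K : Type u) [Field K] [Algebra A K] (hK : RingHom.ker (algebraMap A K) = m.asIdeal) (t : B →ₐ[A] K) :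
    ∃ (A' : Type u) (_ : CommRing A') (_ : Algebra A A') (m' : PrimeSpectrum A') (x : sp A (A' ⊗[A] B) ⟶ X),
      Algebra.Etale A A' ∧ m'.comap (algebraMap A A') = m ∧ IsSol c x := by
  have hnt : Nontrivial B := t.toRingHom.domain_nontrivial
  obtain ⟨C, _, _, hC, jo, hjo, hm⟩ := exists_chart X ((1 : sp A A ⟶ X).left m)
  obtain ⟨Q, _, _, hQ, π, hπ, huniv⟩ := K553.CocRep.exists_rep c C jo
  have hQs : Algebra.Smooth A Q := K553.CocSmooth.smooth hc jo hπ huniv
  let x : sp A (K ⊗[A] B) ⟶ X := sol c t 1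
  have hx : IsSol c x := isSol_sol hc t 1
  have hrange : Set.range x.left ⊆ Set.range jo.left := by
    rintro _ ⟨P, rfl⟩
    let P' : PrimeSpectrum (K ⊗[A] B) := P
    let L : Type u := P'.asIdeal.ResidueField
    let g : K ⊗[A] B →ₐ[A] L := IsScalarTower.toAlgHom A (K ⊗[A] B) L
    let f : K →ₐ[A] L := g.comp Algebra.TensorProduct.includeLeft
    let j : B →ₐ[A] L := g.comp Algebra.TensorProduct.includeRight
    have hL : RingHom.ker (algebraMap A L) = m.asIdeal := by
      rw [← hK]
      have e : algebraMap A L = f.toRingHom.comp (algebraMap A K) := f.comp_algebraMap.symm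
      rw [e]
      exact RingHom.ker_comp_of_injective _ f.toRingHom.injective
    have hj : j = f.comp t := hB L hL _ _
    have hg : g = tl f j := Coc.eq_tl g
    have h1 : smap g ≫ x = 1 := by
      have h2 : smap g ≫ x = pt x f j := by rw [hg]; rfl
      rw [h2, pt_sol, hj, hc.self, _root_.one_mul, MonObj.comp_one]
    let P₀ : PrimeSpectrum L := ⟨⊥, Ideal.isPrime_bot⟩
    have hP : P₀.comap g.toRingHom = P' := by
      ext z
      change g z ∈ (⊥ : Ideal L) ↔ _
      rw [Ideal.mem_bot]
      exact Ideal.algebraMap_residueField_eq_zero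
    have h3 : x.left P = (smap g ≫ x).left P₀ := by
      rw [Over.comp_left]
      change x.left P' = x.left (P₀.comap g.toRingHom)
      rw [hP]
    have h4 : P₀.comap (algebraMap A L) = m := by
      ext z
      change (algebraMap A L) z ∈ (⊥ : Ideal L) ↔ _
      rw [Ideal.mem_bot, ← hL, RingHom.mem_ker]
    rw [h3, h1, one_left_apply (Algebra.ofId A L) P₀]
    have h5 : P₀.comap (Algebra.ofId A L).toRingHom = m := h4
    rw [h5]
    exact hm
  obtain ⟨θ, hθ⟩ := exists_factor jo x hrange
  obtain ⟨φ, -, -⟩ := huniv K θ (by rw [hθ]; exact hx)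
  let q : PrimeSpectrum Q := ⟨RingHom.ker φ, RingHom.ker_isPrime _⟩
  have hq : q.comap (algebraMap A Q) = m := by
    ext z
    change φ (algebraMap A Q z) = 0 ↔ _
    rw [AlgHom.commutes, ← hK, RingHom.mem_ker]
  obtain ⟨A', _, _, χ, m', he, hm'⟩ := Groth.Agent.Sga3B.MT.EtSec.exists_etale_section (B := A) q
  refine ⟨A', inferInstance, inferInstance, m', _, he, hm'.trans hq, hπ.map c χ⟩

end K553.CocCore
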