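import Groth.Agent.NonAbH1.K553.Coc
import Mathlib.RingTheory.Etale.Descent

/-!
# Representability of the trivialisations of a cocycle with values in an affine open
-/

set_option autoImplicit false
universe u

open CategoryTheory CategoryTheory.Limits MonoidalCategory CartesianMonoidalCategory MonObj AlgebraicGeometry
open scoped TensorProduct

namespace K553.CocRep

open K553.Sp K553.Coc

variable {A : Type u} [CommRing A] {B : Type u} [CommRing B] [Algebra A B]
  {X : Over (Spec (CommRingCat.of A))} [GrpObj X]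

/-- The functor of trivialisations of `c` landing in an affine open of `X` is representable. -/
theorem exists_rep [IsNoetherianRing A] [Module.Finite A B] [Module.Free A B] [IsSeparated X.hom]
    (c : sp A (B ⊗[A] B) ⟶ X) (C : Type u) [CommRing C] [Algebra A C] [Algebra.FinitePresentation A C]
    (jo : sp A C ⟶ X) :
    ∃ (Q : Type u) (_ : CommRing Q) (_ : Algebra A Q) (_ : Algebra.FinitePresentation A Q) (π : C →ₐ[A] Q ⊗[A] B),
      IsSol c (smap π ≫ jo) ∧
      ∀ (T : Type u) [CommRing T] [Algebra A T] (θ : C →ₐ[A] T ⊗[A] B), IsSol c (smap θ ≫ jo) →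
        ∃! φ : Q →ₐ[A] T, (Algebra.TensorProduct.map φ (AlgHom.id A B)).comp π = θ := by
  obtain ⟨W, _, _, hW, πs, hπ⟩ := Groth.Agent.Sga3B.Hens.WeilRes.exists_weil A B (fun _ : PUnit.{u+1} => C)
  let π₀ : C →ₐ[A] W ⊗[A] B := πs PUnit.unit
  have hπ₀ : ∀ (T : Type u) [CommRing T] [Algebra A T] (e : C →ₐ[A] T ⊗[A] B),
      ∃! φ : W →ₐ[A] T, (Algebra.TensorProduct.map φ (AlgHom.id A B)).comp π₀ = e := by
    intro T _ _ e
    obtain ⟨φ, h1, h2⟩ := hπ T (fun _ => e)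
    exact ⟨φ, h1 PUnit.unit, fun ψ hψ => h2 ψ (fun _ => hψ)⟩
  let xu : sp A (W ⊗[A] B) ⟶ X := smap π₀ ≫ jo
  let u₁ : sp A (W ⊗[A] (B ⊗[A] B)) ⟶ X := pt xu (i₀ A B W) (i₁ A B W)
  let u₂ : sp A (W ⊗[A] (B ⊗[A] B)) ⟶ X := cc c (i₁ A B W) (i₂ A B W) * pt xu (i₀ A B W) (i₂ A B W)
  obtain ⟨a, ha⟩ := exists_eq_ideal u₁ u₂
  have hnoeth : IsNoetherianRing (W ⊗[A] (B ⊗[A] B)) := by
    have : IsNoetherianRing W := Algebra.FiniteType.isNoetherianRing A W
    exact IsNoetherianRing.of_finite W _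
  obtain ⟨b, hb, hbu⟩ := Groth.Agent.Sga3B.Hens.WeilRes.exists_ideal A (B ⊗[A] B) W a (IsNoetherian.noetherian a)
  -- the criterion
  have crit : ∀ (T : Type u) [CommRing T] [Algebra A T] (φ : W →ₐ[A] T),
      IsSol c (smap ((Algebra.TensorProduct.map φ (AlgHom.id A B)).comp π₀) ≫ jo) ↔ ∀ z ∈ b, φ z = 0 := by
    intro T _ _ φ
    rw [← hbu T φ, ← ha (T ⊗[A] (B ⊗[A] B)) (Algebra.TensorProduct.map φ (AlgHom.id A (B ⊗[A] B))), isSol_iff,
      ← smap_comp_smap_assoc, pt_map, pt_map]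
    have e0 : (Algebra.TensorProduct.map φ (AlgHom.id A (B ⊗[A] B))).comp (i₀ A B W) = (i₀ A B T).comp φ := by
      ext; simp
    have e1 : (Algebra.TensorProduct.map φ (AlgHom.id A (B ⊗[A] B))).comp (i₁ A B W) = i₁ A B T := by
      ext; simp [i₁]
    have e2 : (Algebra.TensorProduct.map φ (AlgHom.id A (B ⊗[A] B))).comp (i₂ A B W) = i₂ A B T := by
      ext; simp [i₂]
    change _ ↔ smap _ ≫ pt xu _ _ = smap _ ≫ (cc c _ _ * pt xu _ _)
    rw [MonObj.comp_mul, smap_pt, smap_pt, smap_cc, e0, e1, e2]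
  let q : W →ₐ[A] W ⧸ b := Ideal.Quotient.mkₐ A b
  refine ⟨W ⧸ b, inferInstance, inferInstance, Algebra.FinitePresentation.quotient hb,
    (Algebra.TensorProduct.map q (AlgHom.id A B)).comp π₀, ?_, ?_⟩
  · exact (crit _ q).2 (fun z hz => Ideal.Quotient.eq_zero_iff_mem.2 hz)
  · intro T _ _ θ hθ
    obtain ⟨φ₀, h1, h2⟩ := hπ₀ T θ
    have h3 : ∀ z ∈ b, φ₀ z = 0 := by
      refine (crit T φ₀).1 ?_
      have h1' : (Algebra.TensorProduct.map φ₀ (AlgHom.id A B)).comp π₀ = θ := h1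
      rw [h1']; exact hθ
    let φ : (W ⧸ b) →ₐ[A] T := Ideal.Quotient.liftₐ b φ₀ h3
    have hφ : φ.comp q = φ₀ := by
      ext z; rfl
    refine ⟨φ, ?_, ?_⟩
    · change (Algebra.TensorProduct.map φ (AlgHom.id A B)).comp ((Algebra.TensorProduct.map q (AlgHom.id A B)).comp π₀) = θ
      rw [← AlgHom.comp_assoc, ← Algebra.TensorProduct.map_comp, hφ, AlgHom.comp_id]
      exact h1
    · intro ψ hψ
      have h4 : ψ.comp q = φ₀ := by
        refine h2 _ ?_
        change (Algebra.TensorProduct.map (ψ.comp q) (AlgHom.id A B)).comp π₀ = θ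
        rw [← hψ, ← AlgHom.comp_assoc, ← Algebra.TensorProduct.map_comp, AlgHom.comp_id]
      have h5 : ψ.comp q = φ.comp q := h4.trans hφ.symm
      exact (AlgHom.cancel_right (Ideal.Quotient.mkₐ_surjective A b)).1 h5

end K553.CocRep
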