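import Groth.Agent.NonAbH1.K553.CocRep

/-!
# Smoothness of the scheme of trivialisations
-/

set_option autoImplicit false
universe u

open CategoryTheory CategoryTheory.Limits MonoidalCategory CartesianMonoidalCategory MonObj AlgebraicGeometry
open scoped TensorProduct

namespace K553.CocSmooth

open K553.Sp K553.Coc

variable {A : Type u} [CommRing A] {B : Type u} [CommRing B] [Algebra A B]
  {X : Over (Spec (CommRingCat.of A))} [GrpObj X]

/-- `Spec` of the base change of a surjection with nilpotent kernel is surjective. -/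
theorem surjective_specMap {T : Type u} [CommRing T] [Algebra A T] (I : Ideal T) (hI : I ^ 2 = ⊥) :
    Function.Surjective (Spec.map (CommRingCat.ofHom
      (Algebra.TensorProduct.map (Ideal.Quotient.mkₐ A I) (AlgHom.id A B)).toRingHom)) := by
  let h : T ⊗[A] B →ₐ[A] (T ⧸ I) ⊗[A] B := Algebra.TensorProduct.map (Ideal.Quotient.mkₐ A I) (AlgHom.id A B)
  have hs : Function.Surjective h :=
    TensorProduct.map_surjective (R := A) (g := (Ideal.Quotient.mkₐ A I).toLinearMap)
      (g' := (AlgHom.id A B).toLinearMap) (Ideal.Quotient.mkₐ_surjective A I) Function.surjective_id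
  have hk : RingHom.ker h.toRingHom = I.map (Algebra.TensorProduct.includeLeft : T →ₐ[A] T ⊗[A] B) := by
    let g : T →ₐ[A] T ⧸ I := Ideal.Quotient.mkₐ A I
    have h1 := Algebra.TensorProduct.rTensor_ker (R := A) (S := A) (A := T) (B := T ⧸ I) (C := B) g
      (Ideal.Quotient.mkₐ_surjective A I)
    have h2 : RingHom.ker g = I := Ideal.Quotient.mkₐ_ker A I
    rw [h2] at h1
    exact h1
  intro P
  let P' : PrimeSpectrum (T ⊗[A] B) := P
  have h1 : P' ∈ Set.range (PrimeSpectrum.comap h.toRingHom) := by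
    rw [range_comap_of_surjective _ _ hs, PrimeSpectrum.mem_zeroLocus]
    have h2 : RingHom.ker h.toRingHom ≤ P'.asIdeal := by
      rw [hk]
      intro z hz
      refine P'.isPrime.mem_of_pow_mem 2 ?_
      have h3 : z ^ 2 ∈ (I.map (Algebra.TensorProduct.includeLeft : T →ₐ[A] T ⊗[A] B)) ^ 2 := Ideal.pow_mem_pow hz 2
      rw [← Ideal.map_pow, hI, Ideal.map_bot] at h3
      have h4 : z ^ 2 = 0 := h3
      rw [h4]; exact zero_mem _
    exact h2
  exact h1

variable {c : sp A (B ⊗[A] B) ⟶ X} (hc : IsCocycle c) {C : Type u} [CommRing C] [Algebra A C] (jo : sp A C ⟶ X)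
  [IsOpenImmersion jo.left]
  {Q : Type u} [CommRing Q] [Algebra A Q] {π : C →ₐ[A] Q ⊗[A] B} (hπ : IsSol c (smap π ≫ jo))
  (huniv : ∀ (T : Type u) [CommRing T] [Algebra A T] (θ : C →ₐ[A] T ⊗[A] B), IsSol c (smap θ ≫ jo) →
        ∃! φ : Q →ₐ[A] T, (Algebra.TensorProduct.map φ (AlgHom.id A B)).comp π = θ)

include hc hπ huniv in
/-- lifting along square-zero ideals of `B`-algebras -/
theorem exists_lift [Algebra.FormallySmooth A C] {T : Type u} [CommRing T] [Algebra A T] (t : B →ₐ[A] T) (I : Ideal T)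
    (hI : I ^ 2 = ⊥) (qb : Q →ₐ[A] T ⧸ I) : ∃ φ : Q →ₐ[A] T, (Ideal.Quotient.mkₐ A I).comp φ = qb := by
  have : Mono jo.left := inferInstance
  have hjo : Mono jo := (Over.forget _).mono_of_mono_map this
  let g : T →ₐ[A] T ⧸ I := Ideal.Quotient.mkₐ A I
  let θb : C →ₐ[A] (T ⧸ I) ⊗[A] B := (Algebra.TensorProduct.map qb (AlgHom.id A B)).comp π
  have hsb : IsSol c (smap θb ≫ jo) := by
    have := hπ.map c qb
    rwa [smap_comp_smap_assoc] at this
  let tb : B →ₐ[A] T ⧸ I := g.comp t
  let θ0 : C →ₐ[A] T ⧸ I := (tl (AlgHom.id A (T ⧸ I)) tb).comp θb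
  obtain ⟨θ1, hθ1⟩ := Algebra.FormallySmooth.comp_surjective A C I hI θ0
  let y : sp A T ⟶ X := smap θ1 ≫ jo
  let x : sp A (T ⊗[A] B) ⟶ X := sol c t y
  have hx : IsSol c x := isSol_sol hc t y
  have h1 : smap (Algebra.TensorProduct.map g (AlgHom.id A B)) ≫ x = smap θb ≫ jo := by
    rw [smap_sol, hsb.eq_sol tb, pt, smap_comp_smap_assoc, smap_comp_smap_assoc]
    congr 3
  have hsurj := surjective_specMap (A := A) (B := B) I hI
  have h2 : Set.range x.left ⊆ Set.range jo.left := by
    rintro _ ⟨P, rfl⟩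
    obtain ⟨P', rfl⟩ := hsurj P
    have h3 := congrArg CommaMorphism.left h1
    change Spec.map _ ≫ x.left = (smap θb).left ≫ jo.left at h3
    refine ⟨(smap θb).left P', ?_⟩
    have h4 := congrArg (fun z => z.base P') h3
    exact h4.symm
  obtain ⟨θ, hθ⟩ := exists_factor jo x h2
  obtain ⟨φ, hφ, -⟩ := huniv T θ (by rw [hθ]; exact hx)
  refine ⟨φ, ?_⟩
  obtain ⟨ψ, -, hψ⟩ := huniv (T ⧸ I) θb hsb
  have e1 : (Algebra.TensorProduct.map (g.comp φ) (AlgHom.id A B)).comp π = θb := by
    have e2 : (Algebra.TensorProduct.map (g.comp φ) (AlgHom.id A B)).comp π =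
        (Algebra.TensorProduct.map g (AlgHom.id A B)).comp θ := by
      have hφ' : (Algebra.TensorProduct.map φ (AlgHom.id A B)).comp π = θ := hφ
      rw [← hφ', ← AlgHom.comp_assoc, ← Algebra.TensorProduct.map_comp, AlgHom.comp_id]
    rw [e2]
    apply smap_injective
    rw [← cancel_mono jo, ← h1, ← hθ, ← smap_comp_smap_assoc]
  exact (hψ _ e1).trans (hψ _ rfl).symm

include hc hπ huniv in
/-- The scheme of trivialisations is smooth. -/
theorem smooth [Module.FaithfullyFlat A B] [Algebra.FormallySmooth A C] [Algebra.FinitePresentation A Q] :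
    Algebra.Smooth A Q := by
  have h : Algebra.Smooth B (B ⊗[A] Q) := by
    refine ⟨?_, inferInstance⟩
    refine Algebra.FormallySmooth.of_comp_surjective fun T _ _ I hI f => ?_
    let _ : Algebra A T := ((algebraMap B T).comp (algebraMap A B)).toAlgebra
    have hst : IsScalarTower A B T := IsScalarTower.of_algebraMap_eq (fun _ => rfl)
    let t : B →ₐ[A] T := IsScalarTower.toAlgHom A B T
    let qb : Q →ₐ[A] T ⧸ I := (f.restrictScalars A).comp Algebra.TensorProduct.includeRight
    obtain ⟨φ, hφ⟩ := exists_lift hc jo hπ huniv t I hI qb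
    refine ⟨Algebra.TensorProduct.lift (Algebra.ofId B T) φ (fun _ _ => Commute.all _ _), ?_⟩
    apply Algebra.TensorProduct.ext'
    intro b q
    rw [AlgHom.comp_apply, Algebra.TensorProduct.lift_tmul]
    have h1 : f (b ⊗ₜ[A] q) = (algebraMap B (T ⧸ I) b) * qb q := by
      have : (b ⊗ₜ[A] q : B ⊗[A] Q) = (algebraMap B (B ⊗[A] Q) b) * ((1 : B) ⊗ₜ[A] q) := by
        rw [Algebra.TensorProduct.algebraMap_apply, Algebra.TensorProduct.tmul_mul_tmul, _root_.mul_one, _root_.one_mul]; rfl
      rw [this, map_mul, AlgHom.commutes]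
      rfl
    rw [h1, map_mul]
    have h2 := DFunLike.congr_fun hφ q
    congr 1
  exact Algebra.Smooth.of_smooth_tensorProduct_of_faithfullyFlat B

end K553.CocSmooth
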