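import Groth.Agent.NonAbH1.K554.BcPt
import Groth.Agent.NonAbH1.K551.Tors
import Groth.Agent.Dix.GenExtUniq
import Groth.Agent.NonAbH1.K553.SubTorsMain

/-!
# Morphisms over the generic fibre in terms of `Over S`
-/

set_option autoImplicit false
universe u

open CategoryTheory CategoryTheory.Limits MonoidalCategory CartesianMonoidalCategory MonObj AlgebraicGeometry
open Groth.Agent.Books.BorelOrb

namespace K553.GenHom

open K554.BcPt

section General

variable {S S' : Scheme.{u}} (f : S' ⟶ S) {P Q G : Over S} [GrpObj G]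

/-- a morphism of base changes as a morphism out of `P ⊗ S'` -/
noncomputable def genHom (φ : Red.bc f P ⟶ Red.bc f Q) : P ⊗ Over.mk f ⟶ Q :=
  Over.homMk (φ.left ≫ pullback.fst Q.hom f) (by
    have h1 : φ.left ≫ pullback.snd Q.hom f = pullback.snd P.hom f := Over.w φ
    rw [Category.assoc, pullback.condition, ← Category.assoc, h1]
    exact (pullback.condition (f := P.hom) (g := f)).symm)

/-- a scheme over `Over.mk f` comes from a scheme over `S'` -/
noncomputable def baseIso {T : Over S} (t : T ⟶ Over.mk f) : (Over.map f).obj (Over.mk t.left) ≅ T :=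
  Over.isoMk (Iso.refl _) (by
    have := Over.w t
    simp only [Iso.refl_hom, Category.id_comp]
    exact this.symm)

omit [GrpObj G] in
lemma lift_genHom (φ : Red.bc f P ⟶ Red.bc f Q) {T : Over S} (q : T ⟶ P) (t : T ⟶ Over.mk f) :
    lift q t ≫ genHom f φ = (baseIso f t).inv ≫ un f (mk f ((baseIso f t).hom ≫ q) ≫ φ) := by
  apply Over.OverMorphism.ext
  rw [Over.comp_left, Over.comp_left, un_left, Over.comp_left]
  have h1 : (lift q t).left = (mk f ((baseIso f t).hom ≫ q)).left := by
    apply pullback.hom_ext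
    · have h2 : (lift q t).left ≫ (fst P (Over.mk f)).left = q.left := by
        rw [← Over.comp_left, lift_fst]
      refine Eq.trans h2 ?_
      refine Eq.trans ?_ (mk_left_fst f ((baseIso f t).hom ≫ q)).symm
      rw [Over.comp_left]
      exact (Category.id_comp _).symm
    · have h2 : (lift q t).left ≫ (snd P (Over.mk f)).left = t.left := by
        rw [← Over.comp_left, lift_snd]
      refine Eq.trans h2 ?_
      exact (Over.w (mk f ((baseIso f t).hom ≫ q))).symm
  have h3 : (baseIso f t).inv.left = 𝟙 _ := rfl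
  rw [h3]
  refine Eq.trans ?_ (Category.id_comp _).symm
  rw [h1]
  exact (Category.assoc _ _ _).symm

lemma mk_sm {a : AlgGrp.Action G P} {Y : Over S'} (g : (Over.map f).obj Y ⟶ G) (x : (Over.map f).obj Y ⟶ P) :
    mk f (sm a g x) = sm (a.bc f) (mk f g) (mk f x) :=
  (AlgGrp.Action.lift_homEquiv_bc_act f a g x).symm

theorem genHom_sm {a : AlgGrp.Action G P} {b : AlgGrp.Action G Q} (e : NonAbH1.EquivIso (a.bc f) (b.bc f))
    {T : Over S} (g : T ⟶ G) (q : T ⟶ P) (t : T ⟶ Over.mk f) :
    lift (sm a g q) t ≫ genHom f e.iso.hom = sm b g (lift q t ≫ genHom f e.iso.hom) := by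
  rw [lift_genHom, lift_genHom, comp_sm, mk_sm, K551.Tors.equivIso_sm]
  have h1 : sm (b.bc f) (mk f ((baseIso f t).hom ≫ g)) (mk f ((baseIso f t).hom ≫ q) ≫ e.iso.hom) =
      mk f (sm b ((baseIso f t).hom ≫ g) (un f (mk f ((baseIso f t).hom ≫ q) ≫ e.iso.hom))) := by
    rw [mk_sm, mk_un]
  rw [h1, un_mk, comp_sm, Iso.inv_hom_id_assoc]

end General

section Generic

variable {R : Type u} [CommRing R] [IsDomain R]

/-- the generic point as a scheme over `Spec R` -/
noncomputable abbrev eta (R : Type u) [CommRing R] [IsDomain R] : Over (Spec (CommRingCat.of R)) :=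
  Over.mk (Neron.genPt R)

theorem dom_fst (Z : Over (Spec (CommRingCat.of R))) [Flat Z.hom] :
    IsSchemeTheoreticallyDominant (fst Z (eta R)).left :=
  Groth.Agent.Dix.GenFibre.isSchemeTheoreticallyDominant_genι Z

theorem gen_ext {Z Y : Over (Spec (CommRingCat.of R))} [Flat Z.hom] [IsSeparated Y.hom] {f g : Z ⟶ Y}
    (h : fst Z (eta R) ≫ f = fst Z (eta R) ≫ g) : f = g := by
  apply Groth.Agent.Dix.GenExtUniq.ext_of_genericFibre
  apply Over.OverMorphism.ext
  apply pullback.hom_ext
  · have h1 := congrArg CommaMorphism.left h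
    have e : ∀ k : Z ⟶ Y, ((Neron.genericFibre R).map k).left ≫ pullback.fst Y.hom (Neron.genPt R) =
        (fst Z (eta R) ≫ k).left := fun k => pullback.lift_fst _ _ _
    rw [e, e, h]
  · exact (Over.w ((Neron.genericFibre R).map f)).trans (Over.w ((Neron.genericFibre R).map g)).symm

theorem gen_neron {X : Over (Spec (CommRingCat.of R))}
    (hX : Neron.IsNeronModelOf R X ((Neron.genericFibre R).obj X) (Iso.refl _))
    (Y : Over (Spec (CommRingCat.of R))) [Smooth Y.hom] (h : Y ⊗ eta R ⟶ X) :
    ∃ f : Y ⟶ X, fst Y (eta R) ≫ f = h := by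
  let c : (Over.map (Neron.genPt R)).obj ((Neron.genericFibre R).obj Y) ⟶ Y ⊗ eta R :=
    Over.homMk (𝟙 (pullback Y.hom (Neron.genPt R))) (by
      refine (Category.id_comp _).trans ?_
      exact pullback.condition)
  obtain ⟨f, hf⟩ := (hX.2.2.2.2 Y inferInstance).2 (mk (Neron.genPt R) (c ≫ h))
  refine ⟨f, ?_⟩
  have hf' : (Neron.genericFibre R).map f ≫ 𝟙 _ = mk (Neron.genPt R) (c ≫ h) := hf
  rw [Category.comp_id] at hf'
  apply Over.OverMorphism.ext
  have h1 := congrArg (fun w => w.left ≫ pullback.fst X.hom (Neron.genPt R)) hf'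
  have e1 : ((Neron.genericFibre R).map f).left ≫ pullback.fst X.hom (Neron.genPt R) =
      (fst Y (eta R) ≫ f).left := pullback.lift_fst _ _ _
  have e2 : (mk (Neron.genPt R) (c ≫ h)).left ≫ pullback.fst X.hom (Neron.genPt R) = h.left := by
    rw [mk_left_fst]
    exact Category.id_comp _
  exact e1.symm.trans (h1.trans e2)

end Generic

end K553.GenHom
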