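import Mathlib.RingTheory.Polynomial.ScaleRoots
import Mathlib.RingTheory.IntegralClosure.IsIntegral.Basic
import Mathlib.RingTheory.DiscreteValuationRing.Basic
import Mathlib.LinearAlgebra.TensorProduct.Quotient
import Mathlib.RingTheory.Localization.FractionRing
import Mathlib.RingTheory.TensorProduct.Basic
import Mathlib.RingTheory.LocalRing.ResidueField.Basic
import Mathlib.Tactic

/-!
# Integral elements of `A[1/p]` when `A / p` is reduced
-/

set_option autoImplicit false
universe u v

open TensorProduct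

namespace K553.IntElem

section

variable {A : Type u} {B : Type v} [CommRing A] [CommRing B] (φ : A →+* B) (hφ : Function.Injective φ)
  (p : A) (hp : ∀ b : B, φ p * b = 0 → b = 0) (hred : ∀ (a : A) (m : ℕ), p ∣ a ^ m → p ∣ a)

include hφ in
/-- If `φ(p) b = φ(a)` with `b` integral then `p` divides a power of `a`. -/
theorem exists_dvd_pow {a : A} {b : B} (hb : φ.IsIntegralElem b) (h : φ p * b = φ a) :
    ∃ m : ℕ, p ∣ a ^ m := by
  obtain ⟨P, hP, hPb⟩ := hb
  refine ⟨P.natDegree, ?_⟩
  have h1 : Polynomial.eval₂ φ (φ a) (P.scaleRoots p) = 0 := by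
    rw [← h]; exact Polynomial.scaleRoots_eval₂_eq_zero φ hPb
  rw [Polynomial.eval₂_at_apply] at h1
  have h2 : Polynomial.eval a (P.scaleRoots p) = 0 := hφ (by rw [h1, map_zero])
  rw [Polynomial.eval_eq_sum_range, Polynomial.natDegree_scaleRoots, Finset.sum_range_succ] at h2
  rw [Polynomial.coeff_scaleRoots_natDegree, hP.leadingCoeff, one_mul] at h2
  rw [eq_neg_of_add_eq_zero_right h2, dvd_neg]
  refine Finset.dvd_sum fun i hi => ?_
  rw [Polynomial.coeff_scaleRoots]
  have hi' : P.natDegree - i ≠ 0 := by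
    have := Finset.mem_range.1 hi
    omega
  exact Dvd.dvd.mul_right (Dvd.dvd.mul_left (dvd_pow_self p hi') _) _

include hφ hp hred in
/-- An integral element `c` of `B` with `φ(p)ⁿ c ∈ A` belongs to `A`. -/
theorem mem_of_integral {c : B} (hc : φ.IsIntegralElem c) :
    ∀ (n : ℕ) (a : A), φ p ^ n * c = φ a → ∃ a', φ a' = c := by
  intro n
  induction n with
  | zero => intro a h; exact ⟨a, by rw [← h, pow_zero, one_mul]⟩
  | succ n ih =>
    intro a h
    have h1 : φ p * (φ p ^ n * c) = φ a := by rw [← h, pow_succ]; ring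
    have hb : φ.IsIntegralElem (φ p ^ n * c) := by
      refine RingHom.IsIntegralElem.mul φ ?_ hc
      rw [← map_pow]
      exact RingHom.isIntegralElem_map φ
    obtain ⟨m, hm⟩ := exists_dvd_pow φ hφ p hb h1
    obtain ⟨a', rfl⟩ := hred a m hm
    refine ih a' ?_
    have h2 : φ p * (φ p ^ n * c - φ a') = 0 := by
      rw [mul_sub, h1, map_mul, sub_self]
    exact sub_eq_zero.1 (hp _ h2)

end

section DVR

variable {R : Type u} [CommRing R] [IsDomain R] [IsDiscreteValuationRing R] {A B : Type u} [CommRing A] [CommRing B]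
  [Algebra R A] (φ : A →+* B) (hφ : Function.Injective φ)
  (hp : ∀ (r : R), r ≠ 0 → ∀ b : B, φ (algebraMap R A r) * b = 0 → b = 0)
  (hred : _root_.IsReduced (A ⊗[R] IsLocalRing.ResidueField R))

include hred in
theorem dvd_of_dvd_pow {π : R} (hπ : Irreducible π) (a : A) (m : ℕ) (h : algebraMap R A π ∣ a ^ m) :
    algebraMap R A π ∣ a := by
  have h0 : (a ⊗ₜ[R] (1 : IsLocalRing.ResidueField R)) = 0 := by
    apply eq_zero_of_pow_eq_zero (n := m) 
    obtain ⟨c, hc⟩ := h
    rw [Algebra.TensorProduct.tmul_pow, one_pow, hc, mul_comm, ← Algebra.commutes, ← Algebra.smul_def,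
      TensorProduct.smul_tmul, Algebra.smul_def, mul_one]
    have : algebraMap R (IsLocalRing.ResidueField R) π = 0 := by
      rw [IsLocalRing.ResidueField.algebraMap_eq, IsLocalRing.residue_eq_zero_iff]
      exact (IsLocalRing.mem_maximalIdeal _).2 hπ.not_isUnit
    rw [this, TensorProduct.tmul_zero]
  let I : Ideal A := Ideal.span {algebraMap R A π}
  let ψ : (R ⧸ IsLocalRing.maximalIdeal R) →ₐ[R] A ⧸ I :=
    Ideal.Quotient.liftₐ (IsLocalRing.maximalIdeal R) (Algebra.ofId R (A ⧸ I)) (by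
      intro x hx
      rw [hπ.maximalIdeal_eq, Ideal.mem_span_singleton] at hx
      obtain ⟨y, rfl⟩ := hx
      rw [Algebra.ofId_apply, map_mul]
      have : algebraMap R (A ⧸ I) π = 0 := by
        rw [IsScalarTower.algebraMap_apply R A (A ⧸ I)]
        exact Ideal.Quotient.eq_zero_iff_mem.2 (Ideal.mem_span_singleton_self _)
      rw [this, zero_mul])
  let θ : A ⊗[R] (R ⧸ IsLocalRing.maximalIdeal R) →ₐ[R] A ⧸ I :=
    Algebra.TensorProduct.lift (IsScalarTower.toAlgHom R A (A ⧸ I)) ψ (fun _ _ => Commute.all _ _)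
  have h1 : θ (a ⊗ₜ[R] (1 : R ⧸ IsLocalRing.maximalIdeal R)) = Ideal.Quotient.mk I a := by
    rw [Algebra.TensorProduct.lift_tmul, map_one, mul_one]
    rfl
  have h2 : θ (a ⊗ₜ[R] (1 : R ⧸ IsLocalRing.maximalIdeal R)) = 0 := (congrArg θ h0).trans (map_zero θ)
  rw [h1, Ideal.Quotient.eq_zero_iff_mem] at h2
  exact Ideal.mem_span_singleton.1 h2

include hφ hp hred in
/-- If `A ⊗ k` is reduced, an integral element `c` of `B` with `r c ∈ A`, `r ≠ 0`, belongs to `A`. -/
theorem mem_of_integral_dvr {c : B} (hc : φ.IsIntegralElem c) {r : R} (hr : r ≠ 0) {a : A}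
    (h : φ (algebraMap R A r) * c = φ a) : ∃ a', φ a' = c := by
  obtain ⟨π, hπ⟩ := IsDiscreteValuationRing.exists_irreducible R
  obtain ⟨n, u, rfl⟩ := IsDiscreteValuationRing.eq_unit_mul_pow_irreducible hr hπ
  refine mem_of_integral φ hφ (algebraMap R A π) (hp π hπ.ne_zero) (dvd_of_dvd_pow hred hπ) hc n
    (algebraMap R A (↑u⁻¹ : R) * a) ?_
  rw [map_mul, ← h, ← mul_assoc, ← map_mul, ← map_mul, ← mul_assoc, Units.inv_mul, one_mul, map_pow, map_pow]

end DVR

section Den

variable {R : Type u} [CommRing R] [IsDomain R] {A : Type u} [CommRing A] [Algebra R A]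

/-- elements of `A ⊗ K` have denominators in `R` -/
theorem exists_den (t : A ⊗[R] FractionRing R) :
    ∃ (r : R) (a : A), r ≠ 0 ∧ r • t = a ⊗ₜ[R] (1 : FractionRing R) := by
  induction t using TensorProduct.induction_on with
  | zero => exact ⟨1, 0, one_ne_zero, by simp⟩
  | tmul a x =>
    obtain ⟨n, d, rfl⟩ := IsLocalization.exists_mk'_eq (nonZeroDivisors R) x
    refine ⟨d, n • a, nonZeroDivisors.coe_ne_zero d, ?_⟩
    rw [TensorProduct.smul_tmul', TensorProduct.smul_tmul, TensorProduct.smul_tmul]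
    congr 1
    rw [Algebra.smul_def, Algebra.smul_def, mul_one, IsLocalization.mul_mk'_eq_mk'_of_mul, IsLocalization.mk'_mul_cancel_left]
  | add x y hx hy =>
    obtain ⟨r, a, hr, h⟩ := hx
    obtain ⟨r', a', hr', h'⟩ := hy
    refine ⟨r * r', r' • a + r • a', mul_ne_zero hr hr', ?_⟩
    rw [smul_add, mul_smul, mul_smul, smul_comm r r' x, h, h', TensorProduct.add_tmul, TensorProduct.smul_tmul',
      TensorProduct.smul_tmul']

end Den

end K553.IntElem
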