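import Groth.Agent.NonAbH1.K553.OverCov
import Groth.Agent.NonAbH1.K554.Fpqc

/-!
# Gluing morphisms of `Over S` along a jointly surjective flat family of `S`-schemes
-/

set_option autoImplicit false
universe u v

open CategoryTheory CategoryTheory.Limits MonoidalCategory CartesianMonoidalCategory AlgebraicGeometry

namespace K553.JointCov

variable {S : Scheme.{u}} {ι : Type u} (E : ι → Over S) [∀ s, Flat (E s).hom] [∀ s, LocallyOfFinitePresentation (E s).hom]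
  (hE : ∀ s : S, ∃ j, s ∈ Set.range (E j).hom)

include hE in
theorem mem_precoverage (Z : Over S) :
    Presieve.ofArrows (fun s => (Z ⊗ E s).left) (fun s => (fst Z (E s)).left) ∈ Scheme.fppfPrecoverage Z.left := by
  rw [Scheme.fppfPrecoverage, Scheme.ofArrows_mem_precoverage_iff]
  refine ⟨?_, ?_⟩
  · intro z
    obtain ⟨j, y, hy⟩ := hE (Z.hom z)
    obtain ⟨w, hw1, -⟩ := Scheme.Pullback.exists_preimage_pullback (f := Z.hom) (g := (E j).hom) z y hy.symm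
    exact ⟨j, w, hw1⟩
  · intro j
    have h := (K553.OverCov.isPullback_fst_snd Z (E j)).flip
    exact ⟨MorphismProperty.of_isPullback (P := @Flat) h inferInstance,
      MorphismProperty.of_isPullback (P := @LocallyOfFinitePresentation) h inferInstance⟩

include hE in
theorem joint_ext {Z Y : Over S} {t t' : Z ⟶ Y} (h : ∀ s, fst Z (E s) ≫ t = fst Z (E s) ≫ t') : t = t' := by
  apply Over.OverMorphism.ext
  refine K554.Fpqc.eq_of_cover Scheme.fppfPrecoverage (mem_precoverage E hE Z) ?_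
  rintro _ _ ⟨s⟩
  exact congrArg CommaMorphism.left (h s)

include hE in
theorem joint_desc {Z Y : Over S} (m : ∀ s, Z ⊗ E s ⟶ Y)
    (hm : ∀ s₁ s₂, lift (fst Z (E s₁ ⊗ E s₂)) (snd Z (E s₁ ⊗ E s₂) ≫ fst (E s₁) (E s₂)) ≫ m s₁ =
      lift (fst Z (E s₁ ⊗ E s₂)) (snd Z (E s₁ ⊗ E s₂) ≫ snd (E s₁) (E s₂)) ≫ m s₂) :
    ∃ t : Z ⟶ Y, ∀ s, fst Z (E s) ≫ t = m s := by
  have hR := mem_precoverage E hE Z
  have hc : ∀ {W : Scheme.{u}} (s₁ s₂ : ι) (g₁ : W ⟶ (Z ⊗ E s₁).left) (g₂ : W ⟶ (Z ⊗ E s₂).left),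
      g₁ ≫ (fst Z (E s₁)).left = g₂ ≫ (fst Z (E s₂)).left → g₁ ≫ (m s₁).left = g₂ ≫ (m s₂).left := by
    intro W s₁ s₂ g₁ g₂ h
    let Wo : Over S := Over.mk (g₁ ≫ (Z ⊗ E s₁).hom)
    let G₁ : Wo ⟶ Z ⊗ E s₁ := Over.homMk g₁ rfl
    let G₂ : Wo ⟶ Z ⊗ E s₂ := Over.homMk g₂ (by
      change g₂ ≫ (Z ⊗ E s₂).hom = g₁ ≫ (Z ⊗ E s₁).hom
      rw [← Over.w (fst Z (E s₁)), ← Over.w (fst Z (E s₂)), ← Category.assoc, ← Category.assoc, h])
    have h1 : G₁ ≫ fst Z (E s₁) = G₂ ≫ fst Z (E s₂) := Over.OverMorphism.ext h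
    let l : Wo ⟶ Z ⊗ (E s₁ ⊗ E s₂) := lift (G₁ ≫ fst _ _) (lift (G₁ ≫ snd _ _) (G₂ ≫ snd _ _))
    have e₁ : l ≫ lift (fst Z (E s₁ ⊗ E s₂)) (snd Z (E s₁ ⊗ E s₂) ≫ fst (E s₁) (E s₂)) = G₁ := by
      apply CartesianMonoidalCategory.hom_ext <;> simp [l]
    have e₂ : l ≫ lift (fst Z (E s₁ ⊗ E s₂)) (snd Z (E s₁ ⊗ E s₂) ≫ snd (E s₁) (E s₂)) = G₂ := by
      apply CartesianMonoidalCategory.hom_ext
      · simp [l, h1]
      · simp [l]
    have h2 : G₁ ≫ m s₁ = G₂ ≫ m s₂ := by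
      rw [← e₁, ← e₂, Category.assoc, Category.assoc, hm]
    exact congrArg CommaMorphism.left h2
  have hx : ∀ ⦃T' : Scheme.{u}⦄ (f : T' ⟶ Z.left),
      Presieve.ofArrows (fun s => (Z ⊗ E s).left) (fun s => (fst Z (E s)).left) f →
      ∃ x : T' ⟶ Y.left, ∀ (s : ι) (k : T' ⟶ (Z ⊗ E s).left), k ≫ (fst Z (E s)).left = f → x = k ≫ (m s).left := by
    rintro _ _ ⟨s⟩
    refine ⟨(m s).left, fun s' k hk => ?_⟩
    rw [← hc s s' (𝟙 _) k (by rw [Category.id_comp, hk]), Category.id_comp]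
  choose x hx using hx
  obtain ⟨t, ht⟩ := K554.Fpqc.exists_glue Scheme.fppfPrecoverage hR x (by
    intro T₁ T₂ W g₁ g₂ f₁ f₂ h₁ h₂ e
    obtain ⟨s₁⟩ := id h₁
    obtain ⟨s₂⟩ := id h₂
    rw [hx _ h₁ s₁ (𝟙 _) (Category.id_comp _), hx _ h₂ s₂ (𝟙 _) (Category.id_comp _), Category.id_comp,
      Category.id_comp]
    exact hc s₁ s₂ g₁ g₂ e)
  have ht' : ∀ s, (fst Z (E s)).left ≫ t = (m s).left := by
    intro s
    rw [ht _ ⟨s⟩, hx _ ⟨s⟩ s (𝟙 _) (Category.id_comp _), Category.id_comp]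
  refine ⟨Over.homMk t ?_, fun s => Over.OverMorphism.ext (ht' s)⟩
  refine K554.Fpqc.eq_of_cover Scheme.fppfPrecoverage hR ?_
  rintro _ _ ⟨s⟩
  rw [← Category.assoc, ht', Over.w, Over.w]

end K553.JointCov
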