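import Groth.Agent.Ega4dB.QuotAction
import Groth.Agent.Etbase.FpqcDescent
import Mathlib.CategoryTheory.Monoidal.Cartesian.Over
import Mathlib.AlgebraicGeometry.Sites.Fpqc

/-!
# fppf coverings in `Over S`

`Cov q`: the morphism `q` of `Over S` is flat, surjective and locally of finite presentation.
-/

set_option autoImplicit false
universe u

open CategoryTheory CategoryTheory.Limits MonoidalCategory CartesianMonoidalCategory AlgebraicGeometry

namespace K553.OverCov

variable {S : Scheme.{u}} {Z' Z W : Over S}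

/-- coverings in `Over S` -/
def Cov (q : Z' ⟶ Z) : Prop := (@Surjective ⊓ @Flat ⊓ @LocallyOfFinitePresentation : MorphismProperty Scheme.{u}) q.left

lemma cov_iff (q : Z' ⟶ Z) : Cov q ↔ Surjective q.left ∧ Flat q.left ∧ LocallyOfFinitePresentation q.left :=
  ⟨fun h => ⟨h.1.1, h.1.2, h.2⟩, fun h => ⟨⟨h.1, h.2.1⟩, h.2.2⟩⟩

lemma isPullback_left {A B C D : Over S} {a : A ⟶ B} {b : A ⟶ C} {c : B ⟶ D} {d : C ⟶ D} (h : IsPullback a b c d) :
    IsPullback a.left b.left c.left d.left := h.map (Over.forget S)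

lemma Cov.of_isPullback {A B C D : Over S} {a : A ⟶ B} {b : A ⟶ C} {c : B ⟶ D} {d : C ⟶ D} (h : IsPullback a b c d)
    (hd : Cov d) : Cov a := by
  have h' := (isPullback_left h).flip
  rw [cov_iff] at hd ⊢
  obtain ⟨h1, h2, h3⟩ := hd
  exact ⟨MorphismProperty.of_isPullback (P := @Surjective) h' h1, MorphismProperty.of_isPullback (P := @Flat) h' h2,
    MorphismProperty.of_isPullback (P := @LocallyOfFinitePresentation) h' h3⟩

lemma isPullback_whiskerLeft (W : Over S) (q : Z' ⟶ Z) : IsPullback (W ◁ q) (snd W Z') (snd W Z) q := by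
  refine ⟨⟨by simp⟩, ⟨PullbackCone.IsLimit.mk _ (fun s => lift (s.fst ≫ fst W Z) s.snd) ?_ ?_ ?_⟩⟩
  · intro s
    have hs : s.fst ≫ snd W Z = s.snd ≫ q := s.condition
    apply CartesianMonoidalCategory.hom_ext
    · simp
    · simp [hs]
  · intro s
    simp
  · intro s m h1 h2
    apply CartesianMonoidalCategory.hom_ext
    · have := congrArg (· ≫ fst W Z) h1
      simpa using this
    · simpa using h2

lemma isPullback_whiskerRight (W : Over S) (q : Z' ⟶ Z) : IsPullback (q ▷ W) (fst Z' W) (fst Z W) q := by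
  refine ⟨⟨by simp⟩, ⟨PullbackCone.IsLimit.mk _ (fun s => lift s.snd (s.fst ≫ snd Z W)) ?_ ?_ ?_⟩⟩
  · intro s
    have hs : s.fst ≫ fst Z W = s.snd ≫ q := s.condition
    apply CartesianMonoidalCategory.hom_ext
    · simp [hs]
    · simp
  · intro s
    simp
  · intro s m h1 h2
    apply CartesianMonoidalCategory.hom_ext
    · simpa using h2
    · have := congrArg (· ≫ snd Z W) h1
      simpa using this

lemma Cov.whiskerLeft {q : Z' ⟶ Z} (h : Cov q) (W : Over S) : Cov (W ◁ q) :=
  Cov.of_isPullback (isPullback_whiskerLeft W q) h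

lemma Cov.whiskerRight {q : Z' ⟶ Z} (h : Cov q) (W : Over S) : Cov (q ▷ W) :=
  Cov.of_isPullback (isPullback_whiskerRight W q) h

lemma isPullback_fst_snd (W Z : Over S) : IsPullback (fst W Z).left (snd W Z).left W.hom Z.hom :=
  IsPullback.of_hasPullback W.hom Z.hom

/-- `snd : P ⊗ E ⟶ E` is a covering if `P` is -/
lemma cov_snd (P E : Over S) [Surjective P.hom] [Flat P.hom] [LocallyOfFinitePresentation P.hom] : Cov (snd P E) := by
  rw [cov_iff]
  have h := isPullback_fst_snd P E
  exact ⟨MorphismProperty.of_isPullback h inferInstance, MorphismProperty.of_isPullback h inferInstance,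
    MorphismProperty.of_isPullback h inferInstance⟩

lemma cov_fst (P E : Over S) [Surjective E.hom] [Flat E.hom] [LocallyOfFinitePresentation E.hom] : Cov (fst P E) := by
  rw [cov_iff]
  have h := (isPullback_fst_snd P E).flip
  exact ⟨MorphismProperty.of_isPullback h inferInstance, MorphismProperty.of_isPullback h inferInstance,
    MorphismProperty.of_isPullback h inferInstance⟩

lemma Cov.desc {q : Z' ⟶ Z} (h : Cov q) {Y : Over S} (m : Z' ⟶ Y)
    (hm : ∀ (T : Over S) (g₁ g₂ : T ⟶ Z'), g₁ ≫ q = g₂ ≫ q → g₁ ≫ m = g₂ ≫ m) : ∃ t : Z ⟶ Y, q ≫ t = m := by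
  rw [cov_iff] at h
  obtain ⟨_, _, _⟩ := h
  exact Groth.Agent.Ega4dB.QuotAction.over_desc q m hm

lemma Cov.epi {q : Z' ⟶ Z} (h : Cov q) : Epi q := by
  rw [cov_iff] at h
  obtain ⟨_, _, _⟩ := h
  have h1 : EffectiveEpi q.left := inferInstance
  have h2 : Epi ((Over.forget S).map q) := inferInstanceAs (Epi q.left)
  exact (Over.forget S).epi_of_epi_map h2

/-- points lift along coverings, locally -/
lemma Cov.exists_lift {q : Z' ⟶ Z} (h : Cov q) {T : Over S} (e : T ⟶ Z) :
    ∃ (T' : Over S) (τ : T' ⟶ T) (δ : T' ⟶ Z'), Cov τ ∧ δ ≫ q = τ ≫ e :=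
  ⟨pullback e q, pullback.fst e q, pullback.snd e q, Cov.of_isPullback (IsPullback.of_hasPullback e q) h,
    pullback.condition.symm⟩

lemma Cov.isClosedImmersion {A B C D : Over S} {a : A ⟶ B} {b : A ⟶ C} {c : B ⟶ D} {d : C ⟶ D}
    (h : IsPullback a b c d) (hd : Cov d) (hb : IsClosedImmersion b.left) : IsClosedImmersion c.left :=
  MorphismProperty.of_isPullback_of_descendsAlong (P := @IsClosedImmersion)
    (Q := @Surjective ⊓ @Flat ⊓ @LocallyOfFinitePresentation) (isPullback_left h).flip hd hb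

end K553.OverCov
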