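import Groth.Agent.NonAbH1.K553.RadNbhd

/-!
# Étale locally, flat covers are dominated by finite free covers with radicial special fibre (schemes)
-/

set_option autoImplicit false
universe u

open CategoryTheory CategoryTheory.Limits AlgebraicGeometry
open scoped TensorProduct

namespace K553.RadNbhd

theorem rad_of_mono {A B : Type u} [CommRing A] [CommRing B] [Algebra A B] {Z U : Scheme.{u}} (q : Z ⟶ U) (v : Z)
    (jw : Spec (.of A) ⟶ U) (i : Spec (.of B) ⟶ Z) [Mono i]
    (hcomm : i ≫ q = Spec.map (CommRingCat.ofHom (algebraMap A B)) ≫ jw) (m : PrimeSpectrum A)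
    (hm : jw m = q v) (huniq : ∀ b : PrimeSpectrum B, q (i b) = q v → i b = v)
    (hpi : letI := (q.residueFieldMap v).hom.toAlgebra
      IsPurelyInseparable (U.residueField (q v)) (Z.residueField v))
    (n : PrimeSpectrum B) (hn : n.comap (algebraMap A B) = m) : Rad A B m := by
  refine ⟨?_, ?_⟩
  · intro L _ _ hL j₁ j₂
    let P₀ : PrimeSpectrum L := IsLocalRing.closedPoint L
    have h0 : P₀.comap (algebraMap A L) = m := by
      ext z
      rw [← hL, RingHom.mem_ker]
      change algebraMap A L z ∈ P₀.asIdeal ↔ _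
      have : P₀.asIdeal = ⊥ := IsLocalRing.maximalIdeal_eq_bot
      rw [this, Ideal.mem_bot]
    have hjc : ∀ k : B →ₐ[A] L, Spec.map (CommRingCat.ofHom k.toRingHom) ≫
        Spec.map (CommRingCat.ofHom (algebraMap A B)) = Spec.map (CommRingCat.ofHom (algebraMap A L)) := by
      intro k
      rw [← Spec.map_comp, ← CommRingCat.ofHom_comp]
      congr 2
      exact k.comp_algebraMap
    have hc : ∀ k : B →ₐ[A] L, (Spec.map (CommRingCat.ofHom k.toRingHom) ≫ i) ≫ q =
        Spec.map (CommRingCat.ofHom (algebraMap A L)) ≫ jw := by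
      intro k
      rw [Category.assoc, hcomm, ← Category.assoc, hjc]
    have hpt : ∀ k : B →ₐ[A] L, (Spec.map (CommRingCat.ofHom k.toRingHom) ≫ i) (IsLocalRing.closedPoint L) = v := by
      intro k
      refine huniq (P₀.comap k.toRingHom) ?_
      have h1 := congrArg (fun w => w.base (IsLocalRing.closedPoint L)) (hc k)
      change q (i (P₀.comap k.toRingHom)) = jw (P₀.comap (algebraMap A L)) at h1
      rw [h1, h0, hm]
    have h2 := eq_of_pi q v hpi L _ _ ((hc j₁).trans (hc j₂).symm) (hpt j₁) (hpt j₂)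
    have h3 := Spec.map_injective ((cancel_mono i).1 h2)
    have h4 := congrArg CommRingCat.Hom.hom h3
    exact AlgHom.coe_ringHom_injective h4
  · let K : Type u := n.asIdeal.ResidueField
    refine ⟨K, inferInstance, inferInstance, IsScalarTower.toAlgHom A B K, ?_⟩
    ext z
    rw [RingHom.mem_ker, IsScalarTower.algebraMap_apply A B K, Ideal.algebraMap_residueField_eq_zero, ← hn]
    rfl

theorem exists_nbhd₀ {P S : Scheme.{u}} (f : P ⟶ S) [Flat f] [LocallyOfFinitePresentation f] [Surjective f]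
    [IsLocallyNoetherian S] (s : S) :
    ∃ (A B : Type u) (_ : CommRing A) (_ : CommRing B) (_ : Algebra A B) (g : Spec (.of A) ⟶ S)
      (p : Spec (.of B) ⟶ P) (m : PrimeSpectrum A),
      Etale g ∧ g m = s ∧ IsNoetherianRing A ∧ Module.Finite A B ∧ Module.Flat A B ∧
      p ≫ f = Spec.map (CommRingCat.ofHom (algebraMap A B)) ≫ g ∧ Rad A B m := by
  obtain ⟨S', g', h', hfac, hg'1, hg'2, hg'3, hg'4, -⟩ := Groth.Agent.S2735.result f
  obtain ⟨s', hs'⟩ := g'.surjective s
  obtain ⟨U, g₀, u, hg₀, hu, J, _, V, v, hV, -, hall⟩ := Groth.Agent.S1482.result g' s (fun _ : Unit => s')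
    (fun _ _ _ => rfl) (fun _ => hs') (fun _ => g'.quasiFiniteAt s')
  obtain ⟨w, hw1, hw2⟩ := Scheme.Pullback.exists_preimage_pullback (f := g') (g := g₀) s' u (hs'.trans hu.symm)
  obtain ⟨j, -⟩ := hall w () hw2 hw1
  obtain ⟨hvV, hfin, hvu, huniq, ⟨-, hpi⟩, -⟩ := hV () j
  generalize V () j = V at hvV hfin huniq
  generalize v () j = v at hvV hvu huniq hpi
  have hUn : IsLocallyNoetherian U := LocallyOfFiniteType.isLocallyNoetherian g₀
  obtain ⟨_, ⟨W, hW, rfl⟩, huW, -⟩ := U.isBasis_affineOpens.exists_subset_of_mem_open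
    (Set.mem_univ u) isOpen_univ
  have hW : IsAffineOpen W := hW
  rw [← hW.range_fromSpec] at huW
  obtain ⟨m, hm⟩ := huW
  let A : Type u := Γ(U, W)
  have hAn : IsNoetherianRing A := IsLocallyNoetherian.component_noetherian ⟨W, hW⟩
  let π : V.toScheme ⟶ U := V.ι ≫ pullback.snd g' g₀
  have hπflat : Flat π := inferInstance
  have hπ : IsFinite π := hfin
  let jw : Spec (.of A) ⟶ U := hW.fromSpec
  have hjw : IsOpenImmersion jw := by
    change IsOpenImmersion hW.fromSpec
    infer_instance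
  let Y : Scheme.{u} := pullback π jw
  have hY : IsAffine Y := isAffine_of_isAffineHom (pullback.snd π jw)
  let B : Type u := Γ(Y, ⊤)
  obtain ⟨ψ, hψ⟩ := Spec.map_surjective (Y.isoSpec.inv ≫ pullback.snd π jw : Spec (.of B) ⟶ Spec (.of A))
  have h1 : IsFinite (Spec.map ψ) := by rw [hψ]; infer_instance
  have h2 : Flat (Spec.map ψ) := by rw [hψ]; infer_instance
  have h1' : ψ.hom.Finite := (IsFinite.SpecMap_iff ψ).1 h1
  have h2' : ψ.hom.Flat := HasRingHomProperty.Spec_iff.mp h2
  let _ : Algebra A B := ψ.hom.toAlgebra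
  have hmono : Mono (Y.isoSpec.inv ≫ pullback.fst π jw ≫ V.ι) := inferInstance
  have hsnd : (Y.isoSpec.inv ≫ pullback.fst π jw ≫ V.ι) ≫ pullback.snd g' g₀ = Spec.map ψ ≫ jw := by
    rw [hψ, Category.assoc, Category.assoc, Category.assoc]
    congr 1
    exact pullback.condition (f := π) (g := jw)
  obtain ⟨y, hy1, hy2⟩ := Scheme.Pullback.exists_preimage_pullback (f := π) (g := jw) ⟨v, hvV⟩ m (by
    have hm' : jw m = u := hm
    rw [hm']
    exact hvu)
  refine ⟨A, B, inferInstance, inferInstance, inferInstance, jw ≫ g₀,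
    (Y.isoSpec.inv ≫ pullback.fst π jw ≫ V.ι) ≫ pullback.fst g' g₀ ≫ h', m, inferInstance, ?_, hAn, h1', h2', ?_, ?_⟩
  · change g₀ (jw m) = s
    have hm' : jw m = u := hm
    rw [hm', hu]
  · change _ = Spec.map ψ ≫ jw ≫ g₀
    have e1 : (pullback.fst g' g₀ ≫ h') ≫ f = pullback.snd g' g₀ ≫ g₀ := by
      rw [Category.assoc, hfac, pullback.condition]
    rw [Category.assoc, e1, ← Category.assoc, hsnd, Category.assoc]
  · refine rad_of_mono (pullback.snd g' g₀) v jw (Y.isoSpec.inv ≫ pullback.fst π jw ≫ V.ι) hsnd m ?_ ?_ hpi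
      (Y.isoSpec.hom y) ?_
    · rw [hvu]; exact hm
    · intro b hb
      refine huniq _ ?_ (hb.trans hvu)
      exact ((Y.isoSpec.inv ≫ pullback.fst π jw) b).2
    · have h3 : (Spec.map ψ) (Y.isoSpec.hom y) = m := by
        rw [← hy2, ← Scheme.Hom.comp_apply, hψ, Iso.hom_inv_id_assoc]
      exact h3

theorem exists_nbhd {P S : Scheme.{u}} (f : P ⟶ S) [Flat f] [LocallyOfFinitePresentation f] [Surjective f]
    [IsLocallyNoetherian S] (s : S) :
    ∃ (A B : Type u) (_ : CommRing A) (_ : CommRing B) (_ : Algebra A B) (g : Spec (.of A) ⟶ S)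
      (p : Spec (.of B) ⟶ P) (m : PrimeSpectrum A),
      Etale g ∧ g m = s ∧ IsNoetherianRing A ∧ Module.Finite A B ∧ Module.Free A B ∧
      p ≫ f = Spec.map (CommRingCat.ofHom (algebraMap A B)) ≫ g ∧ Rad A B m := by
  obtain ⟨A₀, B₀, _, _, _, g, p, m₀, hg, hm₀, hA₀, hfin, hflat, hp, hrad⟩ := exists_nbhd₀ f s
  obtain ⟨r, m, hm, hfree, hr⟩ := exists_shrink m₀ hrad
  have hoi : IsOpenImmersion (Spec.map (CommRingCat.ofHom (algebraMap A₀ (Localization.Away r)))) :=
    inferInstanceAs (IsOpenImmersion (Spec.map (CommRingCat.ofHom (algebraMap (CommRingCat.of A₀) (Localization.Away r)))))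
  refine ⟨Localization.Away r, Localization.Away r ⊗[A₀] B₀, inferInstance, inferInstance, inferInstance,
    Spec.map (CommRingCat.ofHom (algebraMap A₀ (Localization.Away r))) ≫ g,
    Spec.map (CommRingCat.ofHom (Algebra.TensorProduct.includeRight :
      B₀ →ₐ[A₀] Localization.Away r ⊗[A₀] B₀).toRingHom) ≫ p, m, inferInstance, ?_, inferInstance, inferInstance,
    hfree, ?_, hr⟩
  · change g (m.comap (algebraMap A₀ (Localization.Away r))) = s
    rw [hm, hm₀]
  · rw [Category.assoc, hp, ← Category.assoc, ← Category.assoc]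
    congr 1
    rw [← Spec.map_comp, ← Spec.map_comp, ← CommRingCat.ofHom_comp, ← CommRingCat.ofHom_comp]
    congr 2
    ext z
    exact (Algebra.TensorProduct.includeRight : B₀ →ₐ[A₀] Localization.Away r ⊗[A₀] B₀).commutes z

end K553.RadNbhd
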