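import Groth.Agent.NonAbH1.K553.LocSol
import Groth.Agent.NonAbH1.K553.OverCov
import Groth.Agent.NonAbH1.K553.CocCore
import Groth.Agent.NonAbH1.K553.RadScheme
import Groth.Agent.NonAbH1.K551.Tors

/-!
# The cocycle of a torsor, and its étale local triviality in a smooth group
-/

set_option autoImplicit false
universe u

open CategoryTheory CategoryTheory.Limits MonoidalCategory CartesianMonoidalCategory MonObj AlgebraicGeometry
open scoped TensorProduct

namespace K553.LocCoc

open K553.Sp K553.Coc K553.LocSol K553.OverCov K551.Tors K554.BcPt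

section

variable {S : Scheme.{u}} {X G P : Over S} [GrpObj X] [GrpObj G] (i : G ⟶ X) [IsMonHom i]
  {a : AlgGrp.Action G P} (ha : NonAbH1.IsPseudoTorsorSch a)
  {A : Type u} [CommRing A] (g : Spec (CommRingCat.of A) ⟶ S) {B : Type u} [CommRing B] [Algebra A B]
  (po : spS g B ⟶ P)

/-- the cocycle of a torsor with a point over `B` -/
noncomputable def coc : sp A (B ⊗[A] B) ⟶ Red.bc g X :=
  mk g (dif ha (smS g (Algebra.TensorProduct.includeLeft : B →ₐ[A] B ⊗[A] B) ≫ po)
    (smS g (Algebra.TensorProduct.includeRight : B →ₐ[A] B ⊗[A] B) ≫ po) ≫ i)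

omit [GrpObj X] [IsMonHom i] in
lemma cc_coc {T : Type u} [CommRing T] [Algebra A T] (j₁ j₂ : B →ₐ[A] T) :
    cc (coc i ha g po) j₁ j₂ = mk g (dif ha (smS g j₁ ≫ po) (smS g j₂ ≫ po) ≫ i) := by
  rw [cc, coc, comp_mk, ← Category.assoc, comp_dif, ← Category.assoc, ← Category.assoc, smS_comp, smS_comp,
    tl_comp_left, tl_comp_right]

lemma isCocycle_coc : IsCocycle (coc i ha g po) := by
  intro T _ _ j₁ j₂ j₃
  rw [cc_coc, cc_coc, cc_coc, ← mk_mul, ← MonObj.mul_comp, dif_mul_dif]

end

/-- **Étale local solutions** of the torsor cocycle in a smooth group. -/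
theorem exists_local {S : Scheme.{u}} {X G P : Over S} [GrpObj X] [GrpObj G] (i : G ⟶ X) [IsMonHom i]
    {a : AlgGrp.Action G P} (ha : NonAbH1.IsPseudoTorsorSch a) [Smooth X.hom] [IsSeparated X.hom]
    [IsLocallyNoetherian S] [Flat P.hom] [LocallyOfFinitePresentation P.hom] [Surjective P.hom] (s : S) :
    ∃ (E D : Over S) (d : D ⟶ E) (δp : D ⟶ P) (x : D ⟶ X), Etale E.hom ∧ s ∈ Set.range E.hom ∧ Cov d ∧
      ∀ (T : Over S) (δ₁ δ₂ : T ⟶ D), δ₁ ≫ d = δ₂ ≫ d →
        δ₁ ≫ x = (dif ha (δ₁ ≫ δp) (δ₂ ≫ δp) ≫ i) * (δ₂ ≫ x) := by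
  obtain ⟨A, B, _, _, _, g, p, m, hg, hgm, hA, hfin, hfree, hp, hrad⟩ := K553.RadNbhd.exists_nbhd P.hom s
  let po : spS g B ⟶ P := Over.homMk p hp
  have hXs : Smooth (Red.bc g X).hom := inferInstanceAs (Smooth (pullback.snd X.hom g))
  have hXsep : IsSeparated (Red.bc g X).hom := inferInstanceAs (IsSeparated (pullback.snd X.hom g))
  obtain ⟨K, _, _, t, hK⟩ := hrad.2
  obtain ⟨A', _, _, m', x, hA', hm', hx⟩ := K553.CocCore.exists_sol (isCocycle_coc i ha g po) m hrad.1 K hK t
  let E : Over S := spS g A'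
  let D : Over S := spS g (A' ⊗[A] B)
  let d : D ⟶ E := smS g Algebra.TensorProduct.includeLeft
  let δp : D ⟶ P := smS g Algebra.TensorProduct.includeRight ≫ po
  have hnt : Nontrivial B := t.toRingHom.domain_nontrivial
  refine ⟨E, D, d, δp, un g x, ?_, ?_, ?_, ?_⟩
  · change Etale (Spec.map (CommRingCat.ofHom (algebraMap A A')) ≫ g)
    have h1 : Etale (Spec.map (CommRingCat.ofHom (algebraMap A A'))) := by
      refine HasRingHomProperty.Spec_iff.mpr ?_
      change RingHom.Etale (algebraMap A A')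
      rw [RingHom.etale_algebraMap]
      exact hA'
    infer_instance
  · refine ⟨m', ?_⟩
    change g (m'.comap (algebraMap A A')) = s
    rw [hm', hgm]
  · rw [cov_iff]
    change Surjective (Spec.map (CommRingCat.ofHom (algebraMap A' (A' ⊗[A] B)))) ∧
      Flat (Spec.map (CommRingCat.ofHom (algebraMap A' (A' ⊗[A] B)))) ∧
      LocallyOfFinitePresentation (Spec.map (CommRingCat.ofHom (algebraMap A' (A' ⊗[A] B))))
    have hfp : Algebra.FinitePresentation A B := Algebra.FinitePresentation.of_finiteType.1 inferInstance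
    have hff : Module.FaithfullyFlat A B := inferInstance
    refine ⟨⟨?_⟩, ?_, ?_⟩
    · exact PrimeSpectrum.comap_surjective_of_faithfullyFlat
    · refine HasRingHomProperty.Spec_iff.mpr ?_
      change RingHom.Flat (algebraMap A' (A' ⊗[A] B))
      rw [RingHom.flat_algebraMap_iff]
      infer_instance
    · refine HasRingHomProperty.Spec_iff.mpr ?_
      change RingHom.FinitePresentation (algebraMap A' (A' ⊗[A] B))
      rw [RingHom.finitePresentation_algebraMap]
      infer_instance
  · intro T δ₁ δ₂ hδ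
    have hw : ∀ δ : T ⟶ D, δ.left ≫ (sp A (A' ⊗[A] B)).hom = (δ ≫ d).left ≫ (sp A A').hom := by
      intro δ
      rw [Over.comp_left, Category.assoc]
      congr 1
      exact (Over.w (smap (Algebra.TensorProduct.includeLeft : A' →ₐ[A] A' ⊗[A] B))).symm
    obtain ⟨T₀, _, _, τ, h₁, h₂, e₁, e₂, huniq⟩ := exists_affine g δ₁ δ₂ (by rw [hw, hw, hδ])
    subst e₁ e₂
    have h0 : h₁.comp Algebra.TensorProduct.includeLeft = h₂.comp Algebra.TensorProduct.includeLeft := by
      apply huniq
      rw [← smS_comp, ← smS_comp, ← Category.assoc, ← Category.assoc]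
      exact hδ
    have h1 := hx T₀ (h₁.comp Algebra.TensorProduct.includeLeft) (h₁.comp Algebra.TensorProduct.includeRight)
      (h₂.comp Algebra.TensorProduct.includeRight)
    have e1 : tl (h₁.comp Algebra.TensorProduct.includeLeft) (h₁.comp Algebra.TensorProduct.includeRight) = h₁ :=
      (Coc.eq_tl h₁).symm
    have e2 : tl (h₁.comp Algebra.TensorProduct.includeLeft) (h₂.comp Algebra.TensorProduct.includeRight) = h₂ := by
      rw [h0]; exact (Coc.eq_tl h₂).symm
    rw [pt, pt, e1, e2, cc_coc] at h1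
    have h2 := congrArg (fun w => τ ≫ un g w) h1
    simp only [un_mul, un_mk, un_comp, MonObj.comp_mul] at h2
    have hp1 : ∀ h : A' ⊗[A] B →ₐ[A] T₀, (τ ≫ smS g h) ≫ δp =
        τ ≫ smS g (h.comp Algebra.TensorProduct.includeRight) ≫ po := by
      intro h
      rw [← smS_comp, Category.assoc, Category.assoc]
    rw [hp1, hp1, ← comp_dif]
    simpa only [Category.assoc] using h2

end K553.LocCoc
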