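import Groth.Agent.NonAbH1.K553.LocCoc

/-!
# Étale local equivariant closed immersions of a torsor into the smooth group
-/

set_option autoImplicit false
universe u

open CategoryTheory CategoryTheory.Limits MonoidalCategory CartesianMonoidalCategory MonObj AlgebraicGeometry
open Groth.Agent.Books.BorelOrb

namespace K553.LocEmb

open K553.OverCov K551.Tors

variable {S : Scheme.{u}} {X G P : Over S} [GrpObj X] [GrpObj G] (i : G ⟶ X) [IsMonHom i]
  {a : AlgGrp.Action G P} (ha : NonAbH1.IsPseudoTorsorSch a)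

/-- an equivariant family of morphisms `P ⟶ X` parametrised by `E` -/
def EquivFam (a : AlgGrp.Action G P) {E : Over S} (α : P ⊗ E ⟶ X) : Prop :=
  ∀ (T : Over S) (g : T ⟶ G) (q : T ⟶ P) (e : T ⟶ E), lift (sm a g q) e ≫ α = (g ≫ i) * (lift q e ≫ α)

include ha in
theorem exists_alpha {E D : Over S} {d : D ⟶ E} (hd : Cov d) (δp : D ⟶ P) (x : D ⟶ X)
    (hx : ∀ (T : Over S) (δ₁ δ₂ : T ⟶ D), δ₁ ≫ d = δ₂ ≫ d →
      δ₁ ≫ x = (dif ha (δ₁ ≫ δp) (δ₂ ≫ δp) ≫ i) * (δ₂ ≫ x)) :
    ∃ α : P ⊗ E ⟶ X, EquivFam i a α := by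
  let α' : P ⊗ D ⟶ X := (dif ha (fst P D) (snd P D ≫ δp) ≫ i) * (snd P D ≫ x)
  have hα' : ∀ (T : Over S) (q : T ⟶ P) (δ : T ⟶ D), lift q δ ≫ α' = (dif ha q (δ ≫ δp) ≫ i) * (δ ≫ x) := by
    intro T q δ
    rw [MonObj.comp_mul, ← Category.assoc, comp_dif, lift_fst, lift_snd_assoc, lift_snd_assoc]
  obtain ⟨α, hα⟩ := (hd.whiskerLeft P).desc α' (by
    intro T g₁ g₂ hg
    have h1 : g₁ ≫ fst P D = g₂ ≫ fst P D := by
      have := congrArg (· ≫ fst P E) hg
      simpa using this
    have h2 : (g₁ ≫ snd P D) ≫ d = (g₂ ≫ snd P D) ≫ d := by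
      have := congrArg (· ≫ snd P E) hg
      simpa using this
    have e1 : ∀ g : T ⟶ P ⊗ D, g = lift (g ≫ fst P D) (g ≫ snd P D) := by
      intro g
      apply CartesianMonoidalCategory.hom_ext <;> simp
    rw [e1 g₁, e1 g₂, hα', hα', h1, hx T _ _ h2, ← _root_.mul_assoc, ← MonObj.mul_comp, dif_mul_dif])
  refine ⟨α, ?_⟩
  intro T g q e
  obtain ⟨T', τ, δ, hτ, hδ⟩ := hd.exists_lift e
  have := hτ.epi
  rw [← cancel_epi τ]
  have e2 : ∀ q : T' ⟶ P, lift q (τ ≫ e) ≫ α = lift q δ ≫ α' := by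
    intro q
    rw [← hδ, ← hα, ← Category.assoc]
    congr 1
    apply CartesianMonoidalCategory.hom_ext <;> simp
  rw [MonObj.comp_mul, comp_lift_assoc, comp_lift_assoc, comp_sm, e2, e2, hα', hα', dif_sm_left, MonObj.mul_comp,
    _root_.mul_assoc, Category.assoc]

/-- right translation of `X ⊗ W` by `c : W ⟶ X` -/
noncomputable def rtrans {W : Over S} (c : W ⟶ X) : X ⊗ W ≅ X ⊗ W where
  hom := lift (fst X W * (snd X W ≫ c)) (snd X W)
  inv := lift (fst X W * (snd X W ≫ c)⁻¹) (snd X W)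
  hom_inv_id := by
    apply CartesianMonoidalCategory.hom_ext
    · rw [Category.assoc, lift_fst, MonObj.comp_mul, lift_fst, GrpObj.comp_inv, lift_snd_assoc, Category.id_comp,
        _root_.mul_assoc, mul_inv_cancel, _root_.mul_one]
    · simp
  inv_hom_id := by
    apply CartesianMonoidalCategory.hom_ext
    · rw [Category.assoc, lift_fst, MonObj.comp_mul, lift_fst, lift_snd_assoc, Category.id_comp,
        _root_.mul_assoc, inv_mul_cancel, _root_.mul_one]
    · simp

omit [IsMonHom i] in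
include ha in
theorem isPullback_emb {E : Over S} {α : P ⊗ E ⟶ X} (hα : EquivFam i a α) :
    IsPullback (lift (sm a (fst G (P ⊗ E)) (snd G (P ⊗ E) ≫ fst P E)) (snd G (P ⊗ E) ≫ snd P E))
      (lift ((fst G (P ⊗ E) ≫ i) * (snd G (P ⊗ E) ≫ α)) (snd G (P ⊗ E)))
      (lift α (snd P E)) (X ◁ snd P E) := by
  have hsnd : snd G (P ⊗ E) = lift (snd G (P ⊗ E) ≫ fst P E) (snd G (P ⊗ E) ≫ snd P E) := by
    apply CartesianMonoidalCategory.hom_ext <;> simp
  refine ⟨⟨?_⟩, ⟨PullbackCone.IsLimit.mk _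
    (fun s => lift (dif ha (s.fst ≫ fst P E) (s.snd ≫ snd X (P ⊗ E) ≫ fst P E)) (s.snd ≫ snd X (P ⊗ E))) ?_ ?_ ?_⟩⟩
  · apply CartesianMonoidalCategory.hom_ext
    · rw [Category.assoc, lift_fst, hα, ← hsnd]
      simp
    · simp
  · intro s
    have hs : s.fst ≫ lift α (snd P E) = s.snd ≫ (X ◁ snd P E) := s.condition
    have h2 : s.fst ≫ snd P E = s.snd ≫ snd X (P ⊗ E) ≫ snd P E := by
      have := congrArg (· ≫ snd X E) hs
      simpa using this
    apply CartesianMonoidalCategory.hom_ext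
    · rw [Category.assoc, lift_fst, comp_sm, lift_fst, lift_snd_assoc, Category.assoc, sm_dif]
    · rw [Category.assoc, lift_snd, lift_snd_assoc, Category.assoc, h2]
  · intro s
    have hs : s.fst ≫ lift α (snd P E) = s.snd ≫ (X ◁ snd P E) := s.condition
    have h1 : s.fst ≫ α = s.snd ≫ fst X (P ⊗ E) := by
      have := congrArg (· ≫ fst X E) hs
      simpa using this
    have h2 : s.fst ≫ snd P E = s.snd ≫ snd X (P ⊗ E) ≫ snd P E := by
      have := congrArg (· ≫ snd X E) hs
      simpa using this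
    apply CartesianMonoidalCategory.hom_ext
    · have e : s.snd ≫ snd X (P ⊗ E) = lift (s.snd ≫ snd X (P ⊗ E) ≫ fst P E) (s.snd ≫ snd X (P ⊗ E) ≫ snd P E) := by
        apply CartesianMonoidalCategory.hom_ext <;> simp
      rw [Category.assoc, lift_fst, MonObj.comp_mul, lift_fst_assoc, lift_snd_assoc, e, ← hα, sm_dif, ← h2,
        ← h1]
      congr 1
      apply CartesianMonoidalCategory.hom_ext <;> simp
    · rw [Category.assoc, lift_snd, lift_snd]
  · intro s m h1 h2
    have e2 : m ≫ snd G (P ⊗ E) = s.snd ≫ snd X (P ⊗ E) := by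
      have := congrArg (· ≫ snd X (P ⊗ E)) h2
      simpa using this
    have e1 : sm a (m ≫ fst G (P ⊗ E)) (m ≫ snd G (P ⊗ E) ≫ fst P E) = s.fst ≫ fst P E := by
      have := congrArg (· ≫ fst P E) h1
      simp only [Category.assoc, lift_fst, comp_sm] at this
      exact this
    apply CartesianMonoidalCategory.hom_ext
    · rw [lift_fst]
      refine (dif_eq ha ?_).symm
      rw [← e1, ← Category.assoc, ← e2, Category.assoc]
    · rw [lift_snd, e2]

include ha in
/-- An equivariant family is a family of closed immersions. -/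
theorem isClosedImmersion_emb [IsClosedImmersion i.left] [Flat P.hom] [Surjective P.hom]
    [LocallyOfFinitePresentation P.hom] {E : Over S} {α : P ⊗ E ⟶ X} (hα : EquivFam i a α) :
    IsClosedImmersion (lift α (snd P E)).left := by
  refine Cov.isClosedImmersion (isPullback_emb i ha hα) ((cov_snd P E).whiskerLeft X) ?_
  have e : lift ((fst G (P ⊗ E) ≫ i) * (snd G (P ⊗ E) ≫ α)) (snd G (P ⊗ E)) = (i ▷ (P ⊗ E)) ≫ (rtrans α).hom := by
    apply CartesianMonoidalCategory.hom_ext
    · rw [lift_fst, rtrans, Category.assoc, lift_fst, MonObj.comp_mul, whiskerRight_fst, whiskerRight_snd_assoc]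
    · rw [lift_snd, rtrans, Category.assoc, lift_snd, whiskerRight_snd]
  rw [e, Over.comp_left]
  have h1 : IsClosedImmersion (i ▷ (P ⊗ E)).left :=
    MorphismProperty.of_isPullback (P := @IsClosedImmersion) (isPullback_left (isPullback_whiskerRight (P ⊗ E) i)).flip
      inferInstance
  have h2 : IsIso (rtrans α).hom.left := inferInstanceAs (IsIso ((Over.forget S).map (rtrans α).hom))
  infer_instance

end K553.LocEmb
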