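import Groth.Agent.NonAbH1.K553.LocEmb
import Groth.Agent.NonAbH1.K553.GenHom

/-!
# Extension of morphisms of torsors from the generic fibre, after an étale base change
-/

set_option autoImplicit false
universe u

open CategoryTheory CategoryTheory.Limits MonoidalCategory CartesianMonoidalCategory MonObj AlgebraicGeometry
open Groth.Agent.Books.BorelOrb

namespace K553.LocExt

open K553.OverCov K551.Tors K553.LocEmb K553.GenHom

theorem exists_ext {R : Type u} [CommRing R] [IsDomain R] {X G P Q : Over (Spec (CommRingCat.of R))} [GrpObj X]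
    [GrpObj G] (hX : Neron.IsNeronModelOf R X ((Neron.genericFibre R).obj X) (Iso.refl _))
    (i : G ⟶ X) [IsMonHom i] [IsClosedImmersion i.left] {a : AlgGrp.Action G P} (ha : NonAbH1.IsPseudoTorsorSch a)
    {b : AlgGrp.Action G Q} (hb : NonAbH1.IsPseudoTorsorSch b) [Flat P.hom] [Surjective P.hom]
    [LocallyOfFinitePresentation P.hom] [Flat Q.hom] [Surjective Q.hom] [LocallyOfFinitePresentation Q.hom]
    (φ : P ⊗ eta R ⟶ Q) (hφ : ∀ (T : Over (Spec (CommRingCat.of R))) (g : T ⟶ G) (q : T ⟶ P) (t : T ⟶ eta R),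
      lift (sm a g q) t ≫ φ = sm b g (lift q t ≫ φ))
    {E : Over (Spec (CommRingCat.of R))} [Smooth E.hom] {α : P ⊗ E ⟶ X} (hα : EquivFam i a α) {β : Q ⊗ E ⟶ X}
    (hβ : EquivFam i b β) :
    ∃ ψ : P ⊗ E ⟶ Q, ∀ (T : Over (Spec (CommRingCat.of R))) (q : T ⟶ P) (e : T ⟶ E) (t : T ⟶ eta R),
      lift q e ≫ ψ = lift q t ≫ φ := by
  let ξ' : (P ⊗ E) ⊗ eta R ⟶ X := (fst (P ⊗ E) (eta R) ≫ α)⁻¹ *
    (lift (lift (fst (P ⊗ E) (eta R) ≫ fst P E) (snd (P ⊗ E) (eta R)) ≫ φ) (fst (P ⊗ E) (eta R) ≫ snd P E) ≫ β)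
  have hξ' : ∀ (T : Over (Spec (CommRingCat.of R))) (q : T ⟶ P) (e : T ⟶ E) (t : T ⟶ eta R),
      lift (lift q e) t ≫ ξ' = (lift q e ≫ α)⁻¹ * (lift (lift q t ≫ φ) e ≫ β) := by
    intro T q e t
    rw [MonObj.comp_mul, GrpObj.comp_inv, lift_fst_assoc, comp_lift_assoc, comp_lift_assoc, lift_snd,
      lift_fst_assoc, lift_fst_assoc, lift_fst, lift_snd]
  obtain ⟨ξη, hξη⟩ := ((cov_snd P E).whiskerRight (eta R)).desc ξ' (by
    intro T g₁ g₂ hg
    have e1 : ∀ g : T ⟶ (P ⊗ E) ⊗ eta R, g = lift (lift (g ≫ fst _ _ ≫ fst P E) (g ≫ fst _ _ ≫ snd P E)) (g ≫ snd _ _) := by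
      intro g
      apply CartesianMonoidalCategory.hom_ext
      · apply CartesianMonoidalCategory.hom_ext <;> simp
      · simp
    have h1 : g₁ ≫ fst _ _ ≫ snd P E = g₂ ≫ fst _ _ ≫ snd P E := by
      have := congrArg (· ≫ fst E (eta R)) hg
      simpa using this
    have h2 : g₁ ≫ snd _ _ = g₂ ≫ snd _ _ := by
      have := congrArg (· ≫ snd E (eta R)) hg
      simpa using this
    have h3 : g₁ ≫ fst _ _ ≫ fst P E = sm a (dif ha (g₁ ≫ fst _ _ ≫ fst P E) (g₂ ≫ fst _ _ ≫ fst P E))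
        (g₂ ≫ fst _ _ ≫ fst P E) := (sm_dif ha _ _).symm
    rw [e1 g₁, e1 g₂, h1, h2, h3, hξ', hξ', hα, hφ, hβ]
    rw [_root_.mul_inv_rev, _root_.mul_assoc, inv_mul_cancel_left])
  obtain ⟨ξ, hξ⟩ := gen_neron hX E ξη
  let gm : P ⊗ E ⟶ X := α * (snd P E ≫ ξ)
  have hgm : ∀ (T : Over (Spec (CommRingCat.of R))) (q : T ⟶ P) (e : T ⟶ E) (t : T ⟶ eta R),
      lift q e ≫ gm = lift (lift q t ≫ φ) e ≫ β := by
    intro T q e t
    have h1 : e ≫ ξ = lift (lift q e) t ≫ ξ' := by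
      rw [← hξη, ← hξ, ← Category.assoc, ← Category.assoc]
      congr 1
      simp
    rw [MonObj.comp_mul, lift_snd_assoc, h1, hξ', mul_inv_cancel_left]
  have hcl : IsClosedImmersion (lift β (snd Q E)).left := isClosedImmersion_emb i hb hβ
  have hflat : Flat (P ⊗ E).hom := by
    have h : (P ⊗ E).hom = (fst P E).left ≫ P.hom := (Over.w (fst P E)).symm
    have h2 : Flat (fst P E).left :=
      MorphismProperty.of_isPullback (P := @Flat) (isPullback_fst_snd P E).flip inferInstance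
    rw [h]; infer_instance
  let z : (P ⊗ E) ⊗ eta R ⟶ Q ⊗ E :=
    lift (lift (fst (P ⊗ E) (eta R) ≫ fst P E) (snd (P ⊗ E) (eta R)) ≫ φ) (fst (P ⊗ E) (eta R) ≫ snd P E)
  have hz : fst (P ⊗ E) (eta R) ≫ lift gm (snd P E) = z ≫ lift β (snd Q E) := by
    apply CartesianMonoidalCategory.hom_ext
    · rw [Category.assoc, lift_fst, Category.assoc, lift_fst]
      have h1 := hgm _ (fst (P ⊗ E) (eta R) ≫ fst P E) (fst (P ⊗ E) (eta R) ≫ snd P E) (snd (P ⊗ E) (eta R))
      rw [← h1]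
      congr 1
      apply CartesianMonoidalCategory.hom_ext <;> simp
    · simp [z]
  have hdom := dom_fst (P ⊗ E)
  obtain ⟨w, hw⟩ := K553.SubTorsMain.exists_lift_of_dom (fst (P ⊗ E) (eta R)).left (lift gm (snd P E)).left
    (lift β (snd Q E)).left z.left (congrArg CommaMorphism.left hz)
  let wo : P ⊗ E ⟶ Q ⊗ E := Over.homMk w (by
    rw [← Over.w (lift β (snd Q E)), ← Category.assoc, hw, Over.w])
  have hwo : wo ≫ lift β (snd Q E) = lift gm (snd P E) := Over.OverMorphism.ext hw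
  have hmono : Mono (lift β (snd Q E)) := by
    have : Mono ((Over.forget _).map (lift β (snd Q E))) := inferInstanceAs (Mono (lift β (snd Q E)).left)
    exact (Over.forget _).mono_of_mono_map this
  refine ⟨wo ≫ fst Q E, fun T q e t => ?_⟩
  have h1 : lift q e ≫ wo = lift (lift q t ≫ φ) e := by
    rw [← cancel_mono (lift β (snd Q E)), Category.assoc, hwo]
    apply CartesianMonoidalCategory.hom_ext
    · rw [Category.assoc, lift_fst, hgm T q e t, Category.assoc, lift_fst]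
    · simp
  rw [← Category.assoc, h1, lift_fst]

end K553.LocExt
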