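import Groth.Agent.NonAbH1.K553.Coc
import Groth.Agent.NonAbH1.K554.BcPt

/-!
# Affine test objects over `Spec A ⟶ S`
-/

set_option autoImplicit false
universe u

open CategoryTheory CategoryTheory.Limits MonoidalCategory CartesianMonoidalCategory MonObj AlgebraicGeometry
open scoped TensorProduct

namespace K553.LocSol

open K553.Sp K553.Coc

variable {A : Type u} [CommRing A] {S : Scheme.{u}} (g : Spec (CommRingCat.of A) ⟶ S)

/-- the spectrum of an `A`-algebra over `S` -/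
noncomputable abbrev spS (T : Type u) [CommRing T] [Algebra A T] : Over S := (Over.map g).obj (sp A T)

/-- morphisms of spectra over `S` -/
noncomputable abbrev smS {T T' : Type u} [CommRing T] [Algebra A T] [CommRing T'] [Algebra A T'] (f : T →ₐ[A] T') :
    spS g T' ⟶ spS g T := (Over.map g).map (smap f)

lemma smS_comp {T T' T'' : Type u} [CommRing T] [Algebra A T] [CommRing T'] [Algebra A T'] [CommRing T'']
    [Algebra A T''] (f : T →ₐ[A] T') (h : T' →ₐ[A] T'') : smS g h ≫ smS g f = smS g (h.comp f) := by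
  rw [← Functor.map_comp, smap_comp_smap]

/-- Pairs of morphisms to spectra of `A`-algebras come from algebra homomorphisms. -/
theorem exists_affine {T : Over S} {C₁ C₂ : Type u} [CommRing C₁] [CommRing C₂] [Algebra A C₁] [Algebra A C₂]
    (δ₁ : T ⟶ spS g C₁) (δ₂ : T ⟶ spS g C₂)
    (h : δ₁.left ≫ (sp A C₁).hom = δ₂.left ≫ (sp A C₂).hom) :
    ∃ (T₀ : Type u) (_ : CommRing T₀) (_ : Algebra A T₀) (τ : T ⟶ spS g T₀) (h₁ : C₁ →ₐ[A] T₀) (h₂ : C₂ →ₐ[A] T₀),
      δ₁ = τ ≫ smS g h₁ ∧ δ₂ = τ ≫ smS g h₂ ∧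
        ∀ (C : Type u) [CommRing C] [Algebra A C] (f f' : C →ₐ[A] T₀), τ ≫ smS g f = τ ≫ smS g f' → f = f' := by
  let T₀ : Type u := Γ(T.left, ⊤)
  have key : ∀ {C : Type u} [CommRing C] (δ : T.left ⟶ Spec (CommRingCat.of C)),
      ∃ ψ : CommRingCat.of C ⟶ Γ(T.left, ⊤), δ = T.left.toSpecΓ ≫ Spec.map ψ := by
    intro C _ δ
    refine ⟨(Scheme.ΓSpecIso (.of C)).inv ≫ δ.appTop, ?_⟩
    rw [Spec.map_comp, ← Category.assoc, ← Scheme.toSpecΓ_naturality, Category.assoc]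
    simp
  have uniq : ∀ {C : Type u} [CommRing C] (ψ ψ' : CommRingCat.of C ⟶ Γ(T.left, ⊤)),
      T.left.toSpecΓ ≫ Spec.map ψ = T.left.toSpecΓ ≫ Spec.map ψ' → ψ = ψ' := by
    intro C _ ψ ψ' hh
    have h1 := congrArg Scheme.Hom.appTop hh
    simp only [Scheme.Hom.comp_appTop, Scheme.toSpecΓ_appTop, Scheme.ΓSpecIso_naturality] at h1
    exact (cancel_epi _).1 h1
  obtain ⟨ψ₁, hψ₁⟩ := key δ₁.left
  obtain ⟨ψ₂, hψ₂⟩ := key δ₂.left
  let _ : Algebra A T₀ := (ψ₁.hom.comp (algebraMap A C₁)).toAlgebra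
  have hc : CommRingCat.ofHom (algebraMap A C₁) ≫ ψ₁ = CommRingCat.ofHom (algebraMap A C₂) ≫ ψ₂ := by
    apply uniq
    rw [Spec.map_comp, Spec.map_comp, ← Category.assoc, ← Category.assoc, ← hψ₁, ← hψ₂]
    exact h
  let h₁ : C₁ →ₐ[A] T₀ := { toRingHom := ψ₁.hom, commutes' := fun r => rfl }
  let h₂ : C₂ →ₐ[A] T₀ :=
    { toRingHom := ψ₂.hom
      commutes' := fun r => (congrArg (fun w : CommRingCat.of A ⟶ Γ(T.left, ⊤) => w.hom r) hc).symm }
  let τ : T ⟶ spS g T₀ := Over.homMk T.left.toSpecΓ (by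
    change T.left.toSpecΓ ≫ Spec.map (CommRingCat.ofHom (ψ₁.hom.comp (algebraMap A C₁))) ≫ g = T.hom
    have h1 : CommRingCat.ofHom (ψ₁.hom.comp (algebraMap A C₁)) = CommRingCat.ofHom (algebraMap A C₁) ≫ ψ₁ := rfl
    rw [h1, Spec.map_comp, ← Category.assoc, ← Category.assoc, ← hψ₁, Category.assoc]
    exact Over.w δ₁)
  refine ⟨T₀, inferInstance, inferInstance, τ, h₁, h₂, ?_, ?_, ?_⟩
  · apply Over.OverMorphism.ext
    exact hψ₁
  · apply Over.OverMorphism.ext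
    exact hψ₂
  · intro C _ _ f f' hf
    have h1 := uniq (CommRingCat.ofHom f.toRingHom) (CommRingCat.ofHom f'.toRingHom)
      (congrArg CommaMorphism.left hf)
    exact AlgHom.coe_ringHom_injective (congrArg CommRingCat.Hom.hom h1)

end K553.LocSol
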