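import Groth.Agent.NonAbH1.K553.LocExt
import Groth.Agent.NonAbH1.K553.JointCov
import Mathlib.RingTheory.DedekindDomain.Basic

/-!
# Torsors under flat closed subgroups of Néron models are determined by their generic fibres
-/

set_option autoImplicit false
universe u

open CategoryTheory CategoryTheory.Limits MonoidalCategory CartesianMonoidalCategory MonObj AlgebraicGeometry
open Groth.Agent.Books.BorelOrb

namespace K553.NeronInj

open K553.OverCov K551.Tors K553.LocEmb K553.GenHom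

lemma EquivFam.comp {S : Scheme.{u}} {X G P : Over S} [GrpObj X] [GrpObj G] {i : G ⟶ X}
    {a : AlgGrp.Action G P} {E E' : Over S} {α : P ⊗ E ⟶ X} (h : EquivFam i a α) (u : E' ⟶ E) :
    EquivFam i a ((P ◁ u) ≫ α) := by
  intro T g q e
  have h1 : ∀ q : T ⟶ P, lift q e ≫ (P ◁ u) ≫ α = lift q (e ≫ u) ≫ α := by
    intro q
    rw [lift_whiskerLeft_assoc]
  rw [h1, h1, h]

/-- a family of étale neighbourhoods with equivariant families for one torsor -/
theorem exists_fam {S : Scheme.{u}} {X G P : Over S} [GrpObj X] [GrpObj G] (i : G ⟶ X) [IsMonHom i]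
    {a : AlgGrp.Action G P} (ha : NonAbH1.IsPseudoTorsorSch a) [Smooth X.hom] [IsSeparated X.hom]
    [IsLocallyNoetherian S] [Flat P.hom] [LocallyOfFinitePresentation P.hom] [Surjective P.hom] (s : S) :
    ∃ (E : Over S) (α : P ⊗ E ⟶ X), Etale E.hom ∧ s ∈ Set.range E.hom ∧ EquivFam i a α := by
  obtain ⟨E, D, d, δp, x, h1, h2, h3, h4⟩ := K553.LocCoc.exists_local i ha s
  obtain ⟨α, hα⟩ := exists_alpha i ha h3 δp x h4
  exact ⟨E, α, h1, h2, hα⟩

theorem exists_fam₂ {S : Scheme.{u}} {X G P Q : Over S} [GrpObj X] [GrpObj G] (i : G ⟶ X) [IsMonHom i]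
    {a : AlgGrp.Action G P} (ha : NonAbH1.IsPseudoTorsorSch a) {b : AlgGrp.Action G Q}
    (hb : NonAbH1.IsPseudoTorsorSch b) [Smooth X.hom] [IsSeparated X.hom]
    [IsLocallyNoetherian S] [Flat P.hom] [LocallyOfFinitePresentation P.hom] [Surjective P.hom]
    [Flat Q.hom] [LocallyOfFinitePresentation Q.hom] [Surjective Q.hom] (s : S) :
    ∃ (E : Over S) (α : P ⊗ E ⟶ X) (β : Q ⊗ E ⟶ X), Etale E.hom ∧ s ∈ Set.range E.hom ∧ EquivFam i a α ∧
      EquivFam i b β := by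
  obtain ⟨E₁, α, h1, h2, hα⟩ := exists_fam i ha s
  obtain ⟨E₂, β, h3, h4, hβ⟩ := exists_fam i hb s
  refine ⟨E₁ ⊗ E₂, (P ◁ fst E₁ E₂) ≫ α, (Q ◁ snd E₁ E₂) ≫ β, ?_, ?_, EquivFam.comp hα _, EquivFam.comp hβ _⟩
  · have h : (E₁ ⊗ E₂).hom = (fst E₁ E₂).left ≫ E₁.hom := (Over.w (fst E₁ E₂)).symm
    have h2 : Etale (fst E₁ E₂).left :=
      MorphismProperty.of_isPullback (P := @Etale) (isPullback_fst_snd E₁ E₂).flip inferInstance
    rw [h]; infer_instance
  · obtain ⟨y₁, hy₁⟩ := h2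
    obtain ⟨y₂, hy₂⟩ := h4
    obtain ⟨w, hw1, -⟩ := Scheme.Pullback.exists_preimage_pullback (f := E₁.hom) (g := E₂.hom) y₁ y₂
      (hy₁.trans hy₂.symm)
    refine ⟨w, ?_⟩
    have h : (E₁ ⊗ E₂).hom = (fst E₁ E₂).left ≫ E₁.hom := (Over.w (fst E₁ E₂)).symm
    rw [h, Scheme.Hom.comp_apply]
    have hw1' : (fst E₁ E₂).left w = y₁ := hw1
    rw [hw1', hy₁]

lemma flat_tensor {S : Scheme.{u}} (P E : Over S) [Flat P.hom] [Flat E.hom] : Flat (P ⊗ E).hom := by
  have h : (P ⊗ E).hom = (fst P E).left ≫ P.hom := (Over.w (fst P E)).symm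
  have h2 : Flat (fst P E).left :=
    MorphismProperty.of_isPullback (P := @Flat) (isPullback_fst_snd P E).flip inferInstance
  rw [h]; infer_instance

theorem exists_equivIso {R : Type u} [CommRing R] [IsDedekindDomain R] {X G : Over (Spec (CommRingCat.of R))}
    [GrpObj X] [GrpObj G] (hX : Neron.IsNeronModelOf R X ((Neron.genericFibre R).obj X) (Iso.refl _))
    (i : G ⟶ X) [IsMonHom i] [IsClosedImmersion i.left] [Flat G.hom]
    {P Q : Over (Spec (CommRingCat.of R))} {a : AlgGrp.Action G P}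
    (ha : NonAbH1.IsTorsorFor Scheme.fppfPrecoverage a)
    {b : AlgGrp.Action G Q} (hb : NonAbH1.IsTorsorFor Scheme.fppfPrecoverage b)
    (e : NonAbH1.EquivIso (a.bc (Neron.genPt R)) (b.bc (Neron.genPt R))) :
    Nonempty (NonAbH1.EquivIso a b) := by
  have hXs : Smooth X.hom := hX.1
  have hXsep : IsSeparated X.hom := hX.2.1
  have hXft : LocallyOfFiniteType X.hom := hX.2.2.1
  have hw : i.left ≫ X.hom = G.hom := Over.w i
  have hGft : LocallyOfFiniteType G.hom := by rw [← hw]; infer_instance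
  have hGsep : IsSeparated G.hom := by rw [← hw]; infer_instance
  have hGfp : LocallyOfFinitePresentation G.hom := inferInstance
  have hP1 : Flat P.hom := flat_of_torsor ha
  have hP2 : LocallyOfFinitePresentation P.hom := lfp_of_torsor ha
  have hP3 : Surjective P.hom := surjective_of_torsor ha
  have hQ1 : Flat Q.hom := flat_of_torsor hb
  have hQ2 : LocallyOfFinitePresentation Q.hom := lfp_of_torsor hb
  have hQ3 : Surjective Q.hom := surjective_of_torsor hb
  have hQ4 : IsSeparated Q.hom := isSeparated_of_torsor hb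
  let φ : P ⊗ eta R ⟶ Q := genHom (Neron.genPt R) e.iso.hom
  have hφ : ∀ (T : Over (Spec (CommRingCat.of R))) (g : T ⟶ G) (q : T ⟶ P) (t : T ⟶ eta R),
      lift (sm a g q) t ≫ φ = sm b g (lift q t ≫ φ) := fun T g q t => genHom_sm (Neron.genPt R) e g q t
  choose E α β hE1 hE2 hα hβ using fun s : Spec (CommRingCat.of R) => exists_fam₂ i ha.1 hb.1 s
  have hE : ∀ s : Spec (CommRingCat.of R), ∃ j, s ∈ Set.range (E j).hom := fun s => ⟨s, hE2 s⟩
  choose ψ hψ using fun s : Spec (CommRingCat.of R) => K553.LocExt.exists_ext hX i ha.1 hb.1 φ hφ (hα s) (hβ s)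
  obtain ⟨ψ₀, hψ₀⟩ := K553.JointCov.joint_desc E hE (Z := P) ψ (by
    intro s₁ s₂
    have h1 : Flat (E s₁ ⊗ E s₂).hom := flat_tensor _ _
    have h2 : Flat (P ⊗ (E s₁ ⊗ E s₂)).hom := flat_tensor _ _
    apply gen_ext
    rw [comp_lift_assoc, comp_lift_assoc, hψ s₁ _ _ _ (snd _ (eta R)), hψ s₂ _ _ _ (snd _ (eta R))])
  -- the restriction of `ψ₀` to the generic fibre
  have hgen : fst P (eta R) ≫ ψ₀ = φ := by
    refine K553.JointCov.joint_ext E hE fun s => ?_
    have h1 : fst (P ⊗ eta R) (E s) ≫ fst P (eta R) ≫ ψ₀ =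
        lift (fst (P ⊗ eta R) (E s) ≫ fst P (eta R)) (snd (P ⊗ eta R) (E s)) ≫ ψ s := by
      rw [← hψ₀ s, lift_fst_assoc, Category.assoc]
    rw [h1, hψ s _ _ _ (fst (P ⊗ eta R) (E s) ≫ snd P (eta R))]
    congr 1
    apply CartesianMonoidalCategory.hom_ext <;> simp
  have hpt : ∀ (T : Over (Spec (CommRingCat.of R))) (q : T ⟶ P) (t : T ⟶ eta R), q ≫ ψ₀ = lift q t ≫ φ := by
    intro T q t
    rw [← hgen, lift_fst_assoc]
  have hequiv : a.act ≫ ψ₀ = (G ◁ ψ₀) ≫ b.act := by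
    have h2 : Flat (G ⊗ P).hom := flat_tensor _ _
    apply gen_ext
    have e1 : fst (G ⊗ P) (eta R) ≫ a.act ≫ ψ₀ =
        sm a (fst (G ⊗ P) (eta R) ≫ fst G P) (fst (G ⊗ P) (eta R) ≫ snd G P) ≫ ψ₀ := by
      rw [sm, ← comp_lift, lift_fst_snd, Category.comp_id, Category.assoc]
    have e2 : fst (G ⊗ P) (eta R) ≫ (G ◁ ψ₀) ≫ b.act =
        sm b (fst (G ⊗ P) (eta R) ≫ fst G P) ((fst (G ⊗ P) (eta R) ≫ snd G P) ≫ ψ₀) := by
      rw [sm, ← Category.assoc]
      congr 1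
      apply CartesianMonoidalCategory.hom_ext <;> simp
    rw [e1, e2, hpt _ _ (snd _ (eta R)), hpt _ _ (snd _ (eta R)), hφ]
  have hiso : IsIso ψ₀ := isIso_of_equivariant ha hb.1 ψ₀ hequiv
  exact ⟨{ iso := asIso ψ₀, comm := hequiv }⟩

end K553.NeronInj
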