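import Groth.Agent.NonAbH1.K553.PatchAlg
import Groth.Agent.FlatB.PushSpec
import Mathlib.AlgebraicGeometry.AffineTransitionLimit
import Mathlib.AlgebraicGeometry.Morphisms.FinitePresentation

/-!
# Patching of morphisms from `Spec L[X]`, `L = C[1/s]`, to a scheme locally of finite presentation
-/

set_option autoImplicit false
universe u

open CategoryTheory CategoryTheory.Limits Polynomial AlgebraicGeometry Opposite
open Groth.Agent.FlatB.PushRing K553.PatchAlg

namespace K553.Patch

variable {C : Type u} [CommRing C] (s : C) (L : Type u) [CommRing L] [Algebra C L] [IsLocalization.Away s L]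

/-- the diagram of schemes -/
noncomputable abbrev FS : (ULift.{u} ℕ)ᵒᵖ ⥤ Scheme.{u} := (F s).op ⋙ Scheme.Spec

/-- the limit cone -/
noncomputable def cone : Cone (FS s) := Scheme.Spec.mapCone (cocone s L).op

noncomputable def isLimit : IsLimit (cone s L) := isLimitOfPreserves Scheme.Spec (isColimit s L).op

instance isAffineHom_FS {i j : (ULift.{u} ℕ)ᵒᵖ} (f : i ⟶ j) : IsAffineHom ((FS s).map f) :=
  inferInstanceAs (IsAffineHom (Spec.map ((F s).map f.unop)))

instance compactSpace_FS (i : (ULift.{u} ℕ)ᵒᵖ) : CompactSpace ((FS s).obj i) :=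
  inferInstanceAs (CompactSpace (Spec (CommRingCat.of C[X])))

instance quasiSeparatedSpace_FS (i : (ULift.{u} ℕ)ᵒᵖ) : QuasiSeparatedSpace ((FS s).obj i) :=
  inferInstanceAs (QuasiSeparatedSpace (Spec (CommRingCat.of C[X])))

theorem SpecMap_sc_comp {C : Type u} [CommRing C] (c : C) {S : Scheme.{u}} (σ : Spec (CommRingCat.of C) ⟶ S) :
    Spec.map (CommRingCat.ofHom (sc c)) ≫ Spec.map (CommRingCat.ofHom (Polynomial.C : C →+* C[X])) ≫ σ =
      Spec.map (CommRingCat.ofHom (Polynomial.C : C →+* C[X])) ≫ σ := by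
  rw [← Spec.map_comp_assoc, ← CommRingCat.ofHom_comp]
  congr 3
  apply RingHom.ext
  intro a
  change sc c (Polynomial.C a) = Polynomial.C a
  ext i
  rw [coeff_sc, coeff_C]
  split_ifs with hi
  · rw [hi, pow_zero, mul_one]
  · rw [zero_mul]

/-- **Patching**. -/
theorem exists_patch {S G : Scheme.{u}} (g : G ⟶ S) [LocallyOfFinitePresentation g]
    (σ : Spec (CommRingCat.of C) ⟶ S)
    (h : Spec (CommRingCat.of L[X]) ⟶ G)
    (hh : h ≫ g = Spec.map (CommRingCat.ofHom ((Polynomial.C : L →+* L[X]).comp (algebraMap C L))) ≫ σ)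
    (u : Spec (CommRingCat.of C) ⟶ G) (hu : u ≫ g = σ)
    (hhu : Spec.map (CommRingCat.ofHom (Polynomial.evalRingHom (0 : L))) ≫ h =
      Spec.map (CommRingCat.ofHom (algebraMap C L)) ≫ u) :
    ∃ (N : ℕ) (h' : Spec (CommRingCat.of C[X]) ⟶ G),
      h' ≫ g = Spec.map (CommRingCat.ofHom (Polynomial.C : C →+* C[X])) ≫ σ ∧
      Spec.map (CommRingCat.ofHom (Polynomial.mapRingHom (algebraMap C L))) ≫ h' =
        Spec.map (CommRingCat.ofHom (sc (algebraMap C L s ^ N))) ≫ h := by
  have hpo := Groth.Agent.FlatB.PushSpec.isPushout_Spec (Polynomial.evalRingHom (0 : L)) (algebraMap C L)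
    (fun x => ⟨Polynomial.C x, by simp⟩)
  let k : Spec (CommRingCat.of (D (C := C) L)) ⟶ G := hpo.desc h u hhu
  have hk1 : Spec.map (CommRingCat.ofHom (eqL.fst _ _)) ≫ k = h := hpo.inl_desc h u hhu
  have hk2 : Spec.map (CommRingCat.ofHom (eqL.snd _ _)) ≫ k = u := hpo.inr_desc h u hhu
  have hkg : ∀ n : ℕ, Spec.map (CommRingCat.ofHom (ι s L n)) ≫
      Spec.map (CommRingCat.ofHom (Polynomial.C : C →+* C[X])) ≫ σ = k ≫ g := by
    intro n
    apply hpo.hom_ext
    · rw [reassoc_of% hk1, hh, ← Spec.map_comp_assoc, ← Spec.map_comp_assoc, ← CommRingCat.ofHom_comp,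
        ← CommRingCat.ofHom_comp]
      congr 3
      apply RingHom.ext
      intro c
      change (ι s L n (Polynomial.C c)).1.1 = Polynomial.C (algebraMap C L c)
      rw [ι_fst]
      ext i
      rw [coeff_sc, coeff_map, coeff_C, coeff_C]
      split_ifs with hi
      · rw [hi, pow_zero, mul_one]
      · rw [map_zero, zero_mul]
    · rw [reassoc_of% hk2, hu, ← Spec.map_comp_assoc, ← Spec.map_comp_assoc, ← CommRingCat.ofHom_comp,
        ← CommRingCat.ofHom_comp]
      have h1 : ((eqL.snd (Polynomial.evalRingHom (0 : L)) (algebraMap C L)).comp (ι s L n)).comp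
          (Polynomial.C : C →+* C[X]) = RingHom.id C := by
        apply RingHom.ext
        intro c
        change (ι s L n (Polynomial.C c)).1.2 = c
        rw [ι_snd, eval_C]
      rw [h1, CommRingCat.ofHom_id, Spec.map_id, Category.id_comp]
  obtain ⟨n, h', h1, h2⟩ := Scheme.exists_π_app_comp_eq_of_locallyOfFinitePresentation (FS s)
    { app n := Spec.map (CommRingCat.ofHom (Polynomial.C : C →+* C[X])) ≫ σ
      naturality n m a := by
        refine Eq.trans ?_ (Category.comp_id _).symm
        exact SpecMap_sc_comp (s ^ (n.unop.down - m.unop.down)) σ } g (cone s L) (isLimit s L) k (by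
      ext n : 2
      exact hkg n.unop.down)
  refine ⟨n.unop.down, h', h2, ?_⟩
  have h3 : Spec.map (CommRingCat.ofHom (ι s L n.unop.down)) ≫ h' = k := h1
  rw [← hk1, ← h3, ← Spec.map_comp_assoc, ← Spec.map_comp_assoc, ← CommRingCat.ofHom_comp, ← CommRingCat.ofHom_comp]
  congr 3
  apply RingHom.ext
  intro f
  change f.map (algebraMap C L) = sc (algebraMap C L s ^ n.unop.down) (ι s L n.unop.down f).1.1
  rw [ι_fst, sc_sc, ← mul_pow, s_mul_t, one_pow, sc_one]

end K553.Patch
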