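import Groth.Agent.FlatB.PushRing
import Mathlib.Algebra.Category.Ring.FilteredColimits
import Mathlib.Algebra.Category.Ring.Colimits
import Mathlib.CategoryTheory.Limits.Types.Filtered
import Mathlib.CategoryTheory.Filtered.Basic
import Mathlib.RingTheory.Localization.Away.Basic
import Mathlib.Algebra.Polynomial.Eval.Degree

/-!
# `C + X L[X]` as a filtered colimit of copies of `C[X]`, `L = C[1/s]`
-/

set_option autoImplicit false
universe u

open CategoryTheory CategoryTheory.Limits Polynomial
open Groth.Agent.FlatB.PushRing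

namespace K553.PatchAlg

section Sc

variable {C : Type u} [CommRing C]

/-- substitution `X ↦ c X` -/
noncomputable def sc (c : C) : C[X] →+* C[X] := Polynomial.compRingHom (Polynomial.C c * X)

theorem coeff_sc (c : C) (f : C[X]) (n : ℕ) : (sc c f).coeff n = f.coeff n * c ^ n :=
  Polynomial.comp_C_mul_X_coeff

theorem sc_sc (c d : C) (f : C[X]) : sc c (sc d f) = sc (c * d) f := by
  ext n
  rw [coeff_sc, coeff_sc, coeff_sc, mul_pow]; ring

theorem sc_one (f : C[X]) : sc 1 f = f := by
  ext n
  rw [coeff_sc, one_pow, mul_one]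

theorem map_sc {L : Type u} [CommRing L] (φ : C →+* L) (c : C) (f : C[X]) :
    (sc c f).map φ = sc (φ c) (f.map φ) := by
  ext n
  rw [coeff_map, coeff_sc, coeff_sc, coeff_map, map_mul, map_pow]

end Sc

section Colim

variable {C : Type u} [CommRing C] (s : C) (L : Type u) [CommRing L] [Algebra C L] [IsLocalization.Away s L]

/-- the inverse of `s` in `L` -/
noncomputable def t : L := IsLocalization.Away.invSelf s

theorem s_mul_t : algebraMap C L s * t s L = 1 := IsLocalization.Away.mul_invSelf s

/-- the fibre product `L[X] ×_L C` -/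
abbrev D : Type u := eqL (Polynomial.evalRingHom (0 : L)) (algebraMap C L)

/-- the `n`-th map `C[X] → D` , `X ↦ X / s ^ n` -/
noncomputable def ι (n : ℕ) : C[X] →+* D (C := C) L :=
  RingHom.codRestrict
    (((sc (t s L ^ n)).comp (Polynomial.mapRingHom (algebraMap C L))).prod (Polynomial.evalRingHom 0))
    (eqL (Polynomial.evalRingHom (0 : L)) (algebraMap C L)) (by
      intro f
      rw [mem_eqL]
      simp only [RingHom.prod_apply, RingHom.comp_apply, coe_mapRingHom, coe_evalRingHom]
      rw [← coeff_zero_eq_eval_zero, coeff_sc, coeff_map, pow_zero, mul_one, ← coeff_zero_eq_eval_zero])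

theorem ι_fst (n : ℕ) (f : C[X]) : (ι s L n f).1.1 = sc (t s L ^ n) (f.map (algebraMap C L)) := rfl

theorem ι_snd (n : ℕ) (f : C[X]) : (ι s L n f).1.2 = f.eval 0 := rfl

theorem ι_sc {n m : ℕ} (h : n ≤ m) (f : C[X]) : ι s L m (sc (s ^ (m - n)) f) = ι s L n f := by
  apply eqL.ext
  · rw [ι_fst, ι_fst, map_sc, sc_sc]
    congr 1
    rw [map_pow]
    have h1 : t s L ^ m = t s L ^ n * t s L ^ (m - n) := by rw [← pow_add, Nat.add_sub_cancel' h]
    rw [h1, mul_assoc, ← mul_pow, mul_comm (t s L) (algebraMap C L s), s_mul_t, one_pow, mul_one]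
  · rw [ι_snd, ι_snd, ← coeff_zero_eq_eval_zero, ← coeff_zero_eq_eval_zero, coeff_sc, pow_zero, mul_one]

theorem exists_uniform (f : ℕ → C) (S : Finset ℕ) (h : ∀ k ∈ S, ∃ n : ℕ, s ^ n * f k = 0) :
    ∃ n : ℕ, ∀ k ∈ S, s ^ n * f k = 0 := by
  classical
  induction S using Finset.induction_on with
  | empty => exact ⟨0, fun k hk => absurd hk (Finset.notMem_empty k)⟩
  | insert a S ha ih =>
    obtain ⟨n, hn⟩ := ih fun k hk => h k (Finset.mem_insert_of_mem hk)
    obtain ⟨m, hm⟩ := h a (Finset.mem_insert_self a S)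
    refine ⟨n + m, fun k hk => ?_⟩
    rcases Finset.mem_insert.mp hk with rfl | hk
    · rw [pow_add, mul_assoc, hm, mul_zero]
    · rw [pow_add, mul_comm (s ^ n), mul_assoc, hn k hk, mul_zero]

theorem ι_inj {n : ℕ} {f g : C[X]} (h : ι s L n f = ι s L n g) : ∃ k : ℕ, sc (s ^ k) f = sc (s ^ k) g := by
  have h1 : ∀ k, ∃ m : ℕ, s ^ m * (f - g).coeff k = 0 := by
    intro k
    have h2 := congrArg (fun z => (z.1.1).coeff k) h
    simp only [ι_fst, coeff_sc, coeff_map] at h2
    have h3 : algebraMap C L (f.coeff k) = algebraMap C L (g.coeff k) := by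
      have h4 := congrArg (· * (algebraMap C L s ^ n) ^ k) h2
      rwa [mul_assoc, mul_assoc, ← mul_pow, ← mul_pow, mul_comm (t s L), s_mul_t, one_pow, one_pow, mul_one,
        mul_one] at h4
    obtain ⟨m, hm⟩ := IsLocalization.Away.exists_of_eq s h3
    exact ⟨m, by rw [coeff_sub, mul_sub, hm, sub_self]⟩
  obtain ⟨m, hm⟩ := exists_uniform s (fun k => (f - g).coeff k) (f - g).support fun k _ => h1 k
  have h5 : f.coeff 0 = g.coeff 0 := by
    have h6 := congrArg (fun z => z.1.2) h
    simpa only [ι_snd, ← coeff_zero_eq_eval_zero] using h6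
  refine ⟨m, ?_⟩
  ext k
  rw [coeff_sc, coeff_sc]
  rcases Nat.eq_zero_or_pos k with rfl | hk
  · rw [h5]
  · have h7 : s ^ m * (f - g).coeff k = 0 := by
      by_cases hk' : k ∈ (f - g).support
      · exact hm k hk'
      · rw [notMem_support_iff.mp hk', mul_zero]
    rw [coeff_sub, mul_sub, sub_eq_zero] at h7
    obtain ⟨j, rfl⟩ : ∃ j, k = j + 1 := ⟨k - 1, by omega⟩
    rw [pow_succ]
    linear_combination ((s ^ m) ^ j) * h7

theorem ι_surj (z : D (C := C) L) : ∃ (n : ℕ) (f : C[X]), ι s L n f = z := by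
  classical
  have h1 : ∀ k, ∃ (m : ℕ) (c : C), z.1.1.coeff k * algebraMap C L s ^ m = algebraMap C L c := fun k => by
    obtain ⟨m, c, h⟩ := IsLocalization.Away.surj s (z.1.1.coeff k)
    exact ⟨m, c, h⟩
  choose m c hc using h1
  let n := z.1.1.support.sup m
  have h2 : ∀ k, ∃ c : C, z.1.1.coeff k * algebraMap C L s ^ n = algebraMap C L c := by
    intro k
    by_cases hk : k ∈ z.1.1.support
    · have h3 : m k ≤ n := Finset.le_sup hk
      refine ⟨c k * s ^ (n - m k), ?_⟩
      rw [map_mul, ← hc, mul_assoc, map_pow, ← pow_add, Nat.add_sub_cancel' h3]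
    · exact ⟨0, by rw [notMem_support_iff.mp hk, zero_mul, map_zero]⟩
  choose d hd using h2
  let e : ℕ → C := fun k => if k = 0 then z.1.2 else d k * (s ^ n) ^ (k - 1)
  let f : C[X] := ∑ k ∈ insert 0 z.1.1.support, monomial k (e k)
  have hf : ∀ k ∈ insert 0 z.1.1.support, f.coeff k = e k := by
    intro k hk
    rw [finsetSum_coeff, Finset.sum_eq_single k]
    · rw [coeff_monomial, if_pos rfl]
    · intro b _ hb
      rw [coeff_monomial, if_neg hb]
    · intro h; exact absurd hk h
  have hf' : ∀ k, k ∉ insert 0 z.1.1.support → f.coeff k = 0 := by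
    intro k hk
    rw [finsetSum_coeff]
    apply Finset.sum_eq_zero
    intro b hb
    rw [coeff_monomial, if_neg]
    rintro rfl
    exact hk hb
  refine ⟨n, f, ?_⟩
  apply eqL.ext
  · rw [ι_fst]
    ext k
    rw [coeff_sc, coeff_map]
    by_cases hk : k ∈ insert 0 z.1.1.support
    · rw [hf k hk]
      by_cases h0 : k = 0
      · subst h0
        have h4 := eqL_prop z
        rw [coe_evalRingHom, ← coeff_zero_eq_eval_zero] at h4
        simp only [e, if_true, pow_zero, mul_one]
        exact h4.symm
      · simp only [e, if_neg h0]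
        obtain ⟨j, rfl⟩ : ∃ j, k = j + 1 := ⟨k - 1, by omega⟩
        rw [map_mul, ← hd, Nat.add_sub_cancel, map_pow, map_pow, ← pow_mul, ← pow_mul, mul_assoc, mul_assoc]
        have h5 : algebraMap C L s ^ n * (algebraMap C L s ^ (n * j) * t s L ^ (n * (j + 1))) = 1 := by
          rw [← mul_assoc, ← pow_add, show n + n * j = n * (j + 1) by ring, ← mul_pow, s_mul_t, one_pow]
        rw [h5, mul_one]
    · rw [hf' k hk, map_zero, zero_mul]
      have h6 : k ∉ z.1.1.support := fun h => hk (Finset.mem_insert_of_mem h)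
      rw [notMem_support_iff.mp h6]
  · rw [ι_snd, ← coeff_zero_eq_eval_zero, hf 0 (Finset.mem_insert_self _ _)]
    simp [e]

/-- the sequence of rings -/
noncomputable def F : ULift.{u} ℕ ⥤ CommRingCat.{u} where
  obj _ := CommRingCat.of C[X]
  map {n m} _ := CommRingCat.ofHom (sc (s ^ (m.down - n.down)))
  map_id n := by
    ext1
    apply RingHom.ext
    intro f
    change sc (s ^ (n.down - n.down)) f = f
    rw [Nat.sub_self, pow_zero, sc_one]
  map_comp {n m k} a b := by
    ext1
    apply RingHom.ext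
    intro f
    have h1 : n.down ≤ m.down := ULift.down_le.mpr (leOfHom a)
    have h2 : m.down ≤ k.down := ULift.down_le.mpr (leOfHom b)
    change sc (s ^ (k.down - n.down)) f = sc (s ^ (k.down - m.down)) (sc (s ^ (m.down - n.down)) f)
    have h3 : k.down - n.down = k.down - m.down + (m.down - n.down) := by omega
    rw [sc_sc, ← pow_add, h3]

/-- the cocone with vertex `D` -/
noncomputable def cocone : Cocone (F s) where
  pt := CommRingCat.of (D (C := C) L)
  ι :=
    { app n := CommRingCat.ofHom (ι s L n.down)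
      naturality n m a := by
        ext1
        apply RingHom.ext
        intro f
        exact ι_sc s L (ULift.down_le.mpr (leOfHom a)) f }

/-- `D` is the colimit. -/
noncomputable def isColimit : IsColimit (cocone s L) := by
  have : ReflectsColimitsOfShape (ULift.{u} ℕ) (forget CommRingCat.{u}) :=
    reflectsColimitsOfShape_of_reflectsIsomorphisms
  apply isColimitOfReflects (forget CommRingCat.{u})
  apply Types.FilteredColimit.isColimitOf'
  · intro z
    obtain ⟨n, f, h⟩ := ι_surj s L z
    exact ⟨⟨n⟩, f, h.symm⟩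
  · intro n f g h
    obtain ⟨k, hk⟩ := ι_inj s L (n := n.down) h
    refine ⟨⟨n.down + k⟩, homOfLE (ULift.down_le.mp (Nat.le_add_right _ _)), ?_⟩
    change sc (s ^ (n.down + k - n.down)) f = sc (s ^ (n.down + k - n.down)) g
    rw [Nat.add_sub_cancel_left]
    exact hk

end Colim

end K553.PatchAlg
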