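import Groth.Agent.NonAbH1.K553.Patch
import Mathlib.CategoryTheory.Monoidal.Cartesian.Over
import Mathlib.CategoryTheory.Monoidal.Cartesian.Grp
import Mathlib.AlgebraicGeometry.Pullbacks
import Mathlib.RingTheory.Localization.Algebra

/-!
# Patching of points with values in polynomial rings of group schemes
-/

set_option autoImplicit false
universe u

open CategoryTheory CategoryTheory.Limits Polynomial AlgebraicGeometry Opposite
open MonoidalCategory CartesianMonoidalCategory MonObj GrpObj
open Groth.Agent.FlatB.PushRing K553.PatchAlg K553.Patch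

namespace K553.PatchGrp

section Pt

variable (R : Type u) [CommRing R]

/-- `Spec A` as an `R`-scheme -/
noncomputable abbrev pt (A : Type u) [CommRing A] [Algebra R A] : Over (Spec (CommRingCat.of R)) :=
  Over.mk (Spec.map (CommRingCat.ofHom (algebraMap R A)))

variable {R} {A B C : Type u} [CommRing A] [CommRing B] [CommRing C] [Algebra R A] [Algebra R B] [Algebra R C]

/-- the morphism attached to an algebra homomorphism -/
noncomputable def sp (f : A →ₐ[R] B) : pt R B ⟶ pt R A :=
  Over.homMk (Spec.map (CommRingCat.ofHom f.toRingHom)) (by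
    change Spec.map _ ≫ Spec.map _ = Spec.map _
    rw [← Spec.map_comp, ← CommRingCat.ofHom_comp]
    congr 2
    exact f.comp_algebraMap)

theorem sp_left (f : A →ₐ[R] B) : (sp f).left = Spec.map (CommRingCat.ofHom f.toRingHom) := rfl

theorem sp_comp (f : A →ₐ[R] B) (g : B →ₐ[R] C) : sp (g.comp f) = sp g ≫ sp f := by
  ext1
  change Spec.map _ = Spec.map _ ≫ Spec.map _
  rw [← Spec.map_comp, ← CommRingCat.ofHom_comp]
  rfl

theorem eq_sp {f : A →ₐ[R] B} {φ : pt R B ⟶ pt R A} {ψ : A →+* B} (h : φ.left = Spec.map (CommRingCat.ofHom ψ))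
    (hψ : ψ = f.toRingHom) : φ = sp f := by
  subst hψ
  ext1
  exact h

/-- evaluation at `c` -/
noncomputable def ev (R : Type u) [CommRing R] {A : Type u} [CommRing A] [Algebra R A] (c : A) : A[X] →ₐ[R] A :=
  (Polynomial.aeval (R := A) c).restrictScalars R

theorem ev_apply (c : A) (f : A[X]) : ev R c f = f.eval c := by
  change Polynomial.aeval c f = _
  rw [Polynomial.coe_aeval_eq_eval]

theorem ev_toRingHom (c : A) : (ev R c).toRingHom = Polynomial.evalRingHom c :=
  RingHom.ext fun f => ev_apply c f

end Pt

section Main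

variable {R : Type u} [CommRing R] {G : Over (Spec (CommRingCat.of R))} [GrpObj G]
variable {A B : Type u} [CommRing A] [CommRing B] [Algebra R A] [Algebra R B] [Algebra A B] [IsScalarTower R A B]

variable (R A B) in
/-- base change of coefficients -/
noncomputable def mp : A[X] →ₐ[R] B[X] := Polynomial.mapAlgHom (IsScalarTower.toAlgHom R A B)

theorem mp_apply (f : A[X]) : mp R A B f = f.map (algebraMap A B) := rfl

attribute [local instance] Polynomial.algebra Polynomial.isLocalization in
/-- Main patching lemma. -/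
theorem exists_patch_grp [LocallyOfFinitePresentation G.hom] (s : A) [IsLocalization.Away s B]
    (h : pt R B[X][X] ⟶ G) (hh : sp (ev R (0 : B[X])) ≫ h = 1) :
    ∃ N : ℕ, ∀ c : A[X], ∃ g' : pt R A[X] ⟶ G,
      sp (mp R A B) ≫ g' = sp (ev R (Polynomial.C (algebraMap A B s) ^ N * mp R A B c)) ≫ h := by
  have hloc : IsLocalization.Away (Polynomial.C s : A[X]) B[X] := by
    have h1 : IsLocalization ((Submonoid.powers s).map Polynomial.C) B[X] := inferInstance
    rwa [Submonoid.map_powers] at h1
  have hal : (algebraMap A[X] B[X]) = (mp R A B).toRingHom := rfl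
  obtain ⟨N, h', h1, h2⟩ := exists_patch (Polynomial.C s : A[X]) B[X] G.hom
    (Spec.map (CommRingCat.ofHom (algebraMap R A[X]))) h.left (by
      rw [← Spec.map_comp, ← CommRingCat.ofHom_comp]
      refine (Over.w h).trans ?_
      change Spec.map _ = Spec.map _
      congr 2
      apply RingHom.ext
      intro r
      change Polynomial.C (Polynomial.C (algebraMap R B r)) =
        Polynomial.C ((Polynomial.C (algebraMap R A r)).map (algebraMap A B))
      rw [Polynomial.map_C, ← IsScalarTower.algebraMap_apply]) (1 : pt R A[X] ⟶ G).left (Over.w _) (by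
      have h3 := congrArg (fun k => k.left) hh
      rw [Over.comp_left, sp_left, ev_toRingHom] at h3
      rw [h3, hal, ← sp_left, ← Over.comp_left, MonObj.comp_one])
  refine ⟨N, fun c => ⟨Over.homMk (Spec.map (CommRingCat.ofHom (Polynomial.evalRingHom c)) ≫ h') ?_, ?_⟩⟩
  · rw [Category.assoc, h1, ← Spec.map_comp_assoc, ← CommRingCat.ofHom_comp]
    have h3 : (Polynomial.evalRingHom c).comp (Polynomial.C : A[X] →+* A[X][X]) = RingHom.id _ := by
      apply RingHom.ext
      intro a
      change (Polynomial.C a).eval c = a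
      rw [Polynomial.eval_C]
    rw [h3, CommRingCat.ofHom_id, Spec.map_id, Category.id_comp]
    rfl
  · ext1
    rw [Over.comp_left, Over.comp_left, sp_left, sp_left, ev_toRingHom]
    change Spec.map (CommRingCat.ofHom (mp R A B).toRingHom) ≫
        Spec.map (CommRingCat.ofHom (Polynomial.evalRingHom c)) ≫ h' = _
    have h3 : Spec.map (CommRingCat.ofHom (mp R A B).toRingHom) ≫
        Spec.map (CommRingCat.ofHom (Polynomial.evalRingHom c)) =
        Spec.map (CommRingCat.ofHom (Polynomial.evalRingHom (mp R A B c))) ≫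
        Spec.map (CommRingCat.ofHom (Polynomial.mapRingHom (algebraMap A[X] B[X]))) := by
      rw [← Spec.map_comp, ← Spec.map_comp, ← CommRingCat.ofHom_comp, ← CommRingCat.ofHom_comp]
      congr 2
      apply RingHom.ext
      intro f
      change mp R A B (f.eval c) = (f.map (mp R A B).toRingHom).eval (mp R A B c)
      exact (Polynomial.eval_map_apply (mp R A B).toRingHom c).symm
    rw [reassoc_of% h3, h2, ← Spec.map_comp_assoc, ← CommRingCat.ofHom_comp]
    congr 3
    apply RingHom.ext
    intro f
    change (f.comp _).eval _ = f.eval _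
    rw [Polynomial.eval_comp, Polynomial.eval_mul, Polynomial.eval_C, Polynomial.eval_X]
    congr 3
    change (Polynomial.C s).map (algebraMap A B) = _
    rw [Polynomial.map_C]

omit [Algebra A B] [IsScalarTower R A B] in
theorem ev_comp_C (c : A) : (ev R c).comp (Polynomial.CAlgHom (R := R) (A := A)) = AlgHom.id R A :=
  AlgHom.ext fun a => by
    change ev R c (Polynomial.C a) = a
    rw [ev_apply, Polynomial.eval_C]

/-- correction of the value at `0` -/
theorem exists_correct (g' : pt R A[X] ⟶ G) (h : sp (ev R (0 : B)) ≫ sp (mp R A B) ≫ g' = 1) :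
    ∃ g₁ : pt R A[X] ⟶ G, sp (ev R (0 : A)) ≫ g₁ = 1 ∧ sp (mp R A B) ≫ g₁ = sp (mp R A B) ≫ g' := by
  refine ⟨g' * (sp (Polynomial.CAlgHom (R := R) (A := A)) ≫ sp (ev R (0 : A)) ≫ g')⁻¹, ?_, ?_⟩
  · rw [comp_mul, comp_inv, ← Category.assoc (sp (ev R (0 : A))) (sp (Polynomial.CAlgHom (R := R) (A := A))),
      ← sp_comp, ev_comp_C]
    have h1 : sp (AlgHom.id R A) = 𝟙 (pt R A) := by
      ext1
      rw [sp_left]
      exact Spec.map_id _
    rw [h1, Category.id_comp, mul_inv_cancel]
  · rw [comp_mul, comp_inv]
    have h2 : sp (mp R A B) ≫ sp (Polynomial.CAlgHom (R := R) (A := A)) ≫ sp (ev R (0 : A)) ≫ g' = 1 := by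
      have h3 : ((mp R A B).comp ((Polynomial.CAlgHom (R := R) (A := A)).comp (ev R (0 : A)))) =
          ((Polynomial.CAlgHom (R := R) (A := B)).comp ((ev R (0 : B)).comp (mp R A B))) := by
        apply AlgHom.ext
        intro f
        change mp R A B (Polynomial.C (ev R (0 : A) f)) = Polynomial.C (ev R (0 : B) (mp R A B f))
        rw [ev_apply, ev_apply, mp_apply, mp_apply, Polynomial.map_C, ← Polynomial.coeff_zero_eq_eval_zero,
          ← Polynomial.coeff_zero_eq_eval_zero, Polynomial.coeff_map]
      rw [← Category.assoc (sp (Polynomial.CAlgHom (R := R) (A := A))), ← sp_comp, ← Category.assoc, ← sp_comp, h3,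
        sp_comp, sp_comp, Category.assoc, Category.assoc, h, MonObj.comp_one]
    rw [h2, inv_one, _root_.mul_one]

end Main

end K553.PatchGrp
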