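import Groth.Agent.NonAbH1.K553.PatchGrp
import Mathlib.RingTheory.Coprime.Lemmas
import Mathlib.RingTheory.Ideal.Operations

/-!
# Decomposition of points vanishing at the origin over a product localization
-/

set_option autoImplicit false
universe u

open CategoryTheory CategoryTheory.Limits Polynomial AlgebraicGeometry Opposite
open MonoidalCategory CartesianMonoidalCategory MonObj GrpObj
open K553.PatchGrp

namespace K553.PatchMain

/-- `R[1/rr']` is the localization of `R[1/r]` at `r'`. -/
theorem isLocalization_away {R A B : Type u} [CommRing R] [CommRing A] [CommRing B] [Algebra R A] [Algebra R B]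
    [Algebra A B] [IsScalarTower R A B] (r r' : R) [IsLocalization.Away r A] [IsLocalization.Away (r * r') B] :
    IsLocalization.Away (algebraMap R A r') B := by
  let B₁ := Localization.Away (algebraMap R A r')
  have h1 : IsLocalization.Away (r * r') B₁ := IsLocalization.Away.mul' A B₁ r r'
  let e : B₁ ≃ₐ[R] B := IsLocalization.algEquiv (Submonoid.powers (r * r')) B₁ B
  have h2 : ∀ a : A, e (algebraMap A B₁ a) = algebraMap A B a := by
    intro a
    have h3 : ((e : B₁ →+* B).comp (algebraMap A B₁)) = algebraMap A B := by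
      apply IsLocalization.ringHom_ext (Submonoid.powers r)
      apply RingHom.ext
      intro x
      change e (algebraMap A B₁ (algebraMap R A x)) = algebraMap A B (algebraMap R A x)
      rw [← IsScalarTower.algebraMap_apply, ← IsScalarTower.algebraMap_apply, e.commutes]
    exact RingHom.congr_fun h3 a
  let e' : B₁ ≃ₐ[A] B := { e with commutes' := h2 }
  exact IsLocalization.isLocalization_of_algEquiv _ e'

section

variable {R : Type u} [CommRing R] {G : Over (Spec (CommRingCat.of R))} [GrpObj G]
variable {B : Type u} [CommRing B] [Algebra R B]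

variable (R) in
/-- the algebra homomorphism `B[T] → E` with `T ↦ e` -/
noncomputable def sub {E : Type u} [CommRing E] [Algebra B E] [Algebra R E] [IsScalarTower R B E] (e : E) :
    B[X] →ₐ[R] E :=
  (Polynomial.aeval (R := B) e).restrictScalars R

theorem sub_C {E : Type u} [CommRing E] [Algebra B E] [Algebra R E] [IsScalarTower R B E] (e : E) (b : B) :
    sub R e (Polynomial.C b) = algebraMap B E b := Polynomial.aeval_C _ _

theorem sub_X {E : Type u} [CommRing E] [Algebra B E] [Algebra R E] [IsScalarTower R B E] (e : E) :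
    sub R e (X : B[X]) = e := Polynomial.aeval_X _

theorem algHom_ext {E : Type u} [CommRing E] [Algebra R E] {f g : B[X] →ₐ[R] E}
    (h : ∀ b : B, f (Polynomial.C b) = g (Polynomial.C b)) (hX : f X = g X) : f = g := by
  have h1 : (f : B[X] →+* E) = (g : B[X] →+* E) := Polynomial.ringHom_ext h hX
  exact AlgHom.ext fun x => RingHom.congr_fun h1 x

/-- scaling of the variable -/
noncomputable abbrev scl (R : Type u) [CommRing R] {B : Type u} [CommRing B] [Algebra R B] (d : B[X]) :
    B[X] →ₐ[R] B[X] := sub R (d * X)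

theorem ev_comp_sub (d : B[X]) (e : B[X][X]) : (ev R d).comp (sub R e) = sub R (B := B) (E := B[X]) (e.eval d) := by
  apply algHom_ext
  · intro b
    rw [AlgHom.comp_apply, sub_C, sub_C, ev_apply]
    change (Polynomial.C (Polynomial.C b)).eval d = Polynomial.C b
    rw [eval_C]
  · rw [AlgHom.comp_apply, sub_X, sub_X, ev_apply]

theorem sub_X' : sub R (B := B) (X : B[X]) = AlgHom.id R B[X] := by
  apply algHom_ext
  · intro b; rw [sub_C]; rfl
  · rw [sub_X]; rfl

theorem ev_comp_scl (d : B[X]) : (ev R (0 : B)).comp (scl R d) = ev R (0 : B) := by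
  apply algHom_ext
  · intro b
    rw [AlgHom.comp_apply, sub_C]; rfl
  · rw [AlgHom.comp_apply, sub_X, ev_apply, ev_apply, eval_mul, eval_X, mul_zero]

theorem sp_id (A : Type u) [CommRing A] [Algebra R A] : sp (AlgHom.id R A) = 𝟙 (pt R A) := by
  ext1
  rw [sp_left]
  exact Spec.map_id _

theorem main [LocallyOfFinitePresentation G.hom]
    (r r' : R) (hrr : Ideal.span ({r, r'} : Set R) = ⊤)
    (A A' : Type u) [CommRing A] [CommRing A'] [Algebra R A] [Algebra R A']
    [IsLocalization.Away r A] [IsLocalization.Away r' A'] [IsLocalization.Away (r * r') B]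
    [Algebra A B] [Algebra A' B] [IsScalarTower R A B] [IsScalarTower R A' B]
    (g : pt R B[X] ⟶ G) (hg : sp (ev R (0 : B)) ≫ g = 1) :
    ∃ (g₁ : pt R A[X] ⟶ G) (g₂ : pt R A'[X] ⟶ G),
      sp (ev R (0 : A)) ≫ g₁ = 1 ∧ sp (ev R (0 : A')) ≫ g₂ = 1 ∧
        g = (sp (mp R A B) ≫ g₁) * (sp (mp R A' B) ≫ g₂) := by
  have l1 : IsLocalization.Away (algebraMap R A r') B := isLocalization_away r r'
  have l2 : IsLocalization.Away (algebraMap R A' r) B := by
    have : IsLocalization.Away (r' * r) B := by rw [mul_comm]; infer_instance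
    exact isLocalization_away r' r
  -- evaluation of the two families
  have hπ : ∀ d : B[X], sp (ev R d) ≫ sp (sub R (Polynomial.C X : B[X][X])) ≫ g = g := by
    intro d
    rw [← Category.assoc, ← sp_comp, ev_comp_sub, eval_C, sub_X', sp_id, Category.id_comp]
  have hμ : ∀ d : B[X], sp (ev R d) ≫ sp (sub R ((1 - X) * Polynomial.C X : B[X][X])) ≫ g = sp (scl R (1 - d)) ≫ g := by
    intro d
    rw [← Category.assoc, ← sp_comp, ev_comp_sub, eval_mul, eval_sub, eval_C, eval_X, eval_one]
  have hν : ∀ d : B[X], sp (ev R d) ≫ sp (sub R (X * Polynomial.C X : B[X][X])) ≫ g = sp (scl R d) ≫ g := by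
    intro d
    rw [← Category.assoc, ← sp_comp, ev_comp_sub, eval_mul, eval_C, eval_X]
  have hscl : ∀ d : B[X], sp (ev R (0 : B)) ≫ sp (scl R d) ≫ g = 1 := by
    intro d
    rw [← Category.assoc, ← sp_comp, ev_comp_scl, hg]
  obtain ⟨N, hN⟩ := exists_patch_grp (A := A) (B := B) (algebraMap R A r')
    ((sp (sub R (Polynomial.C X : B[X][X])) ≫ g) * (sp (sub R ((1 - X) * Polynomial.C X : B[X][X])) ≫ g)⁻¹) (by
      have hscl1 : scl R (1 : B[X]) = AlgHom.id R B[X] := by rw [scl, _root_.one_mul, sub_X']
      rw [comp_mul, comp_inv, hπ, hμ, sub_zero, hscl1, sp_id, Category.id_comp, mul_inv_cancel])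
  obtain ⟨N', hN'⟩ := exists_patch_grp (A := A') (B := B) (algebraMap R A' r)
    (sp (sub R (X * Polynomial.C X : B[X][X])) ≫ g) (by
      rw [hν]
      have h1 : scl R (0 : B[X]) = (Polynomial.CAlgHom (R := R) (A := B)).comp (ev R (0 : B)) := by
        apply algHom_ext
        · intro b
          rw [sub_C, AlgHom.comp_apply, ev_apply, eval_C]
          rfl
        · rw [sub_X, AlgHom.comp_apply, ev_apply, eval_X, zero_mul, map_zero]
      rw [h1, sp_comp, Category.assoc, hg, MonObj.comp_one])
  have hco : IsCoprime (r ^ N') (r' ^ N) := by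
    apply IsCoprime.pow
    rwa [← Ideal.isCoprime_span_singleton_iff, Ideal.isCoprime_iff_sup_eq, ← Ideal.span_union,
      Set.singleton_union]
  obtain ⟨x, y, hxy⟩ := hco
  obtain ⟨g₁', h1⟩ := hN (Polynomial.C (algebraMap R A y))
  obtain ⟨g₂', h2⟩ := hN' (Polynomial.C (algebraMap R A' x))
  let b : B[X] := Polynomial.C (algebraMap R B (x * r ^ N'))
  have e1 : Polynomial.C ((algebraMap A B) ((algebraMap R A) r')) ^ N * (mp R A B) (Polynomial.C ((algebraMap R A) y)) =
      1 - b := by
    rw [mp_apply, map_C, ← IsScalarTower.algebraMap_apply, ← IsScalarTower.algebraMap_apply, ← map_pow, ← map_pow,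
      ← map_mul, ← map_mul]
    have h3 : r' ^ N * y = 1 - x * r ^ N' := by rw [← hxy]; ring
    rw [h3, map_sub, map_sub, map_one, map_one]
  have e2 : Polynomial.C ((algebraMap A' B) ((algebraMap R A') r)) ^ N' *
      (mp R A' B) (Polynomial.C ((algebraMap R A') x)) = b := by
    rw [mp_apply, map_C, ← IsScalarTower.algebraMap_apply, ← IsScalarTower.algebraMap_apply, ← map_pow, ← map_pow,
      ← map_mul, ← map_mul, mul_comm]
  rw [e1, comp_mul, comp_inv, hπ, hμ, sub_sub_cancel] at h1
  rw [e2, hν] at h2
  obtain ⟨g₁, h3, h4⟩ := exists_correct (B := B) g₁' (by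
    rw [h1, comp_mul, comp_inv, hg, hscl, inv_one, _root_.mul_one])
  obtain ⟨g₂, h5, h6⟩ := exists_correct (B := B) g₂' (by
    rw [h2, hscl])
  refine ⟨g₁, g₂, h3, h5, ?_⟩
  rw [h4, h6, h1, h2, inv_mul_cancel_right]

end

end K553.PatchMain
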