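import Groth.Agent.S1482
import Groth.Agent.S2735
import Mathlib.AlgebraicGeometry.Morphisms.UniversallyInjective
import Mathlib.RingTheory.Spectrum.Prime.FreeLocus
import Mathlib.RingTheory.Localization.Free

/-!
# Étale locally, flat covers are dominated by finite free covers with radicial special fibre
-/

set_option autoImplicit false
universe u

open CategoryTheory CategoryTheory.Limits AlgebraicGeometry
open scoped TensorProduct

namespace K553.RadNbhd

set_option backward.defeqAttrib.useBackward true in
/-- Field-valued points at a point with purely inseparable residue field extension. -/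
theorem eq_of_pi {Y U : Scheme.{u}} (π : Y ⟶ U) (v : Y)
    (hpi : letI := (π.residueFieldMap v).hom.toAlgebra
      IsPurelyInseparable (U.residueField (π v)) (Y.residueField v))
    (K : Type u) [Field K] (g₁ g₂ : Spec (.of K) ⟶ Y) (hg : g₁ ≫ π = g₂ ≫ π)
    (h₁ : g₁ (IsLocalRing.closedPoint K) = v) (h₂ : g₂ (IsLocalRing.closedPoint K) = v) : g₁ = g₂ := by
  obtain ⟨e, h⟩ := Scheme.SpecToEquivOfField_eq_iff.mp congr((U.SpecToEquivOfField K) $(hg))
  apply (Y.SpecToEquivOfField K).injective
  dsimp at e h
  simp only [Scheme.descResidueField_stalkClosedPointTo_comp] at e h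
  subst h₁
  rw [← π.residueFieldMap_congr'_assoc h₂.symm, CommRingCat.hom_ext_iff] at h
  rw [Scheme.SpecToEquivOfField_eq_iff]
  algebraize [(π.residueFieldMap (g₁ (IsLocalRing.closedPoint K))).hom]
  refine ⟨h₂.symm, CommRingCat.hom_ext ?_⟩
  have := hpi
  exact IsPurelyInseparable.injective_comp_algebraMap
    (U.residueField (π (g₁ (IsLocalRing.closedPoint K)))) (Y.residueField (g₁ (IsLocalRing.closedPoint K))) _ h

theorem exists_free_away {A₀ B₀ : Type u} [CommRing A₀] [CommRing B₀] [Algebra A₀ B₀] [IsNoetherianRing A₀]
    [Module.Finite A₀ B₀] [Module.Flat A₀ B₀] (m : PrimeSpectrum A₀) :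
    ∃ r ∉ m.asIdeal, Module.Free (Localization.Away r) (Localization.Away r ⊗[A₀] B₀) := by
  have hfp : Module.FinitePresentation A₀ B₀ := Module.finitePresentation_of_finite A₀ B₀
  have : Module.Free (Localization.AtPrime m.asIdeal) (LocalizedModule m.asIdeal.primeCompl B₀) :=
    Module.free_of_flat_of_isLocalRing
  obtain ⟨r, hr, hr', _⟩ := Module.FinitePresentation.exists_free_localizedModule_powers
    m.asIdeal.primeCompl (LocalizedModule.mkLinearMap m.asIdeal.primeCompl B₀)
    (Localization.AtPrime m.asIdeal)
  refine ⟨r, hr, ?_⟩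
  exact Module.Free.of_equiv (IsLocalizedModule.isBaseChange (.powers r) (Localization.Away r)
    (LocalizedModule.mkLinearMap (.powers r) B₀)).equiv.symm

/-- the radicial condition over a point -/
def Rad (A B : Type u) [CommRing A] [CommRing B] [Algebra A B] (m : PrimeSpectrum A) : Prop :=
  (∀ (L : Type u) [Field L] [Algebra A L], RingHom.ker (algebraMap A L) = m.asIdeal →
      ∀ j₁ j₂ : B →ₐ[A] L, j₁ = j₂) ∧
    ∃ (K : Type u) (_ : Field K) (_ : Algebra A K) (_ : B →ₐ[A] K), RingHom.ker (algebraMap A K) = m.asIdeal

theorem exists_shrink {A₀ B₀ : Type u} [CommRing A₀] [CommRing B₀] [Algebra A₀ B₀] [IsNoetherianRing A₀]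
    [Module.Finite A₀ B₀] [Module.Flat A₀ B₀] (m₀ : PrimeSpectrum A₀) (h : Rad A₀ B₀ m₀) :
    ∃ (r : A₀) (m : PrimeSpectrum (Localization.Away r)), m.comap (algebraMap A₀ (Localization.Away r)) = m₀ ∧
      Module.Free (Localization.Away r) (Localization.Away r ⊗[A₀] B₀) ∧
      Rad (Localization.Away r) (Localization.Away r ⊗[A₀] B₀) m := by
  obtain ⟨r, hr, hfree⟩ := exists_free_away (B₀ := B₀) m₀
  have h1 : m₀ ∈ Set.range (PrimeSpectrum.comap (algebraMap A₀ (Localization.Away r))) := by
    rw [PrimeSpectrum.localization_away_comap_range (Localization.Away r) r]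
    exact hr
  obtain ⟨m, hm⟩ := h1
  have key : ∀ (L : Type u) [Field L] [Algebra (Localization.Away r) L] [Algebra A₀ L]
      [IsScalarTower A₀ (Localization.Away r) L],
      RingHom.ker (algebraMap (Localization.Away r) L) = m.asIdeal ↔ RingHom.ker (algebraMap A₀ L) = m₀.asIdeal := by
    intro L _ _ _ _
    let n : PrimeSpectrum (Localization.Away r) := ⟨RingHom.ker (algebraMap (Localization.Away r) L),
      RingHom.ker_isPrime _⟩
    have hn : (n.comap (algebraMap A₀ (Localization.Away r))).asIdeal = RingHom.ker (algebraMap A₀ L) := by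
      ext z
      change algebraMap (Localization.Away r) L (algebraMap A₀ (Localization.Away r) z) = 0 ↔ _
      rw [← IsScalarTower.algebraMap_apply, RingHom.mem_ker]
    have hinj : Function.Injective (PrimeSpectrum.comap (algebraMap A₀ (Localization.Away r))) :=
      PrimeSpectrum.localization_comap_injective _ (Submonoid.powers r)
    constructor
    · intro h
      have : n = m := PrimeSpectrum.ext h
      rw [← hn, this, hm]
    · intro h
      have : n = m := by
        apply hinj
        rw [hm]
        exact PrimeSpectrum.ext (hn.trans h)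
      exact congrArg PrimeSpectrum.asIdeal this
  refine ⟨r, m, hm, hfree, ?_, ?_⟩
  · intro L _ _ hL j₁ j₂
    let _ : Algebra A₀ L := ((algebraMap (Localization.Away r) L).comp (algebraMap A₀ (Localization.Away r))).toAlgebra
    have hst : IsScalarTower A₀ (Localization.Away r) L := IsScalarTower.of_algebraMap_eq (fun _ => rfl)
    apply Algebra.TensorProduct.ext (by ext)
    exact h.1 L ((key L).1 hL) _ _
  · obtain ⟨K, _, _, t, hK⟩ := h.2
    have hu : IsUnit (algebraMap A₀ K r) := by
      rw [isUnit_iff_ne_zero]
      intro h0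
      apply hr
      rw [← hK, RingHom.mem_ker]
      exact h0
    let a : Localization.Away r →+* K := IsLocalization.Away.lift r hu
    let _ : Algebra (Localization.Away r) K := a.toAlgebra
    have hst : IsScalarTower A₀ (Localization.Away r) K := IsScalarTower.of_algebraMap_eq
      (fun z => (IsLocalization.Away.lift_eq r hu z).symm)
    refine ⟨K, inferInstance, inferInstance, Algebra.TensorProduct.lift (Algebra.ofId _ _) t
      (fun _ _ => Commute.all _ _), (key K).2 hK⟩

end K553.RadNbhd
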