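import Groth.Agent.Sga3B.Hens.WeilRes
import Mathlib.AlgebraicGeometry.Group.Affine
import Mathlib.AlgebraicGeometry.Morphisms.Separated
import Mathlib.AlgebraicGeometry.Morphisms.ClosedImmersion

/-!
# Points with values in algebras

`sp T` is the spectrum of an `A`-algebra as a scheme over `Spec A`; `smap f : sp T' ⟶ sp T` the
morphism of an algebra homomorphism.
-/

set_option autoImplicit false
universe u

open CategoryTheory CategoryTheory.Limits MonoidalCategory CartesianMonoidalCategory MonObj AlgebraicGeometry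
open scoped TensorProduct

namespace K553.Sp

variable {A : Type u} [CommRing A]

/-- the spectrum of an algebra as a scheme over the base -/
noncomputable abbrev sp (A T : Type u) [CommRing A] [CommRing T] [Algebra A T] : Over (Spec (CommRingCat.of A)) :=
  Over.mk (Spec.map (CommRingCat.ofHom (algebraMap A T)))

variable {T T' T'' : Type u} [CommRing T] [Algebra A T] [CommRing T'] [Algebra A T'] [CommRing T''] [Algebra A T'']

/-- the morphism of spectra attached to an algebra homomorphism -/
noncomputable def smap (f : T →ₐ[A] T') : sp A T' ⟶ sp A T :=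
  Over.homMk (Spec.map (CommRingCat.ofHom f.toRingHom)) (by
    change Spec.map _ ≫ Spec.map _ = Spec.map _
    rw [← Spec.map_comp, ← CommRingCat.ofHom_comp]
    congr 2
    exact f.comp_algebraMap)

@[simp] lemma smap_left (f : T →ₐ[A] T') : (smap f).left = Spec.map (CommRingCat.ofHom f.toRingHom) := rfl

@[reassoc (attr := simp)]
lemma smap_comp_smap (f : T →ₐ[A] T') (g : T' →ₐ[A] T'') : smap g ≫ smap f = smap (g.comp f) := by
  apply Over.OverMorphism.ext
  rw [Over.comp_left, smap_left, smap_left, smap_left, ← Spec.map_comp, ← CommRingCat.ofHom_comp]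
  rfl

@[simp] lemma smap_id : smap (AlgHom.id A T) = 𝟙 (sp A T) := by
  apply Over.OverMorphism.ext
  exact Spec.map_id _

lemma smap_injective {f g : T →ₐ[A] T'} (h : smap f = smap g) : f = g := by
  have h1 := congrArg CommaMorphism.left h
  have h2 : Spec.map (CommRingCat.ofHom f.toRingHom) = Spec.map (CommRingCat.ofHom g.toRingHom) := h1
  have h3 := congrArg CommRingCat.Hom.hom (Spec.map_injective h2)
  exact AlgHom.coe_ringHom_injective h3

lemma exists_smap (h : sp A T' ⟶ sp A T) : ∃ f : T →ₐ[A] T', smap f = h := by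
  obtain ⟨φ, hφ⟩ := Spec.map_surjective h.left
  have hw : h.left ≫ Spec.map (CommRingCat.ofHom (algebraMap A T)) = Spec.map (CommRingCat.ofHom (algebraMap A T')) :=
    Over.w h
  rw [← hφ, ← Spec.map_comp] at hw
  have h2 := congrArg CommRingCat.Hom.hom (Spec.map_injective hw)
  refine ⟨{ toRingHom := φ.hom, commutes' := fun r => ?_ }, ?_⟩
  · exact congrArg (fun z => z r) h2
  · apply Over.OverMorphism.ext
    rw [smap_left, ← hφ]
    rfl

/-- The equaliser of two morphisms from an affine scheme to a separated scheme is given by an ideal. -/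
theorem exists_eq_ideal {X : Over (Spec (CommRingCat.of A))} [IsSeparated X.hom] (u₁ u₂ : sp A T ⟶ X) :
    ∃ I : Ideal T, ∀ (T' : Type u) [CommRing T'] [Algebra A T'] (h : T →ₐ[A] T'),
      smap h ≫ u₁ = smap h ≫ u₂ ↔ ∀ z ∈ I, h z = 0 := by
  have h1 : IsClosedImmersion (equalizer.ι u₁ u₂).left := inferInstance
  obtain ⟨I, e, he⟩ := IsClosedImmersion.Spec_iff.1 h1
  refine ⟨I, fun T' _ _ h => ?_⟩
  constructor
  · intro hh z hz
    let l : sp A T' ⟶ equalizer u₁ u₂ := equalizer.lift (smap h) hh
    have h2 : l.left ≫ (equalizer.ι u₁ u₂).left = Spec.map (CommRingCat.ofHom h.toRingHom) := by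
      rw [← Over.comp_left, equalizer.lift_ι]; rfl
    obtain ⟨ψ, hψ⟩ := Spec.map_surjective (l.left ≫ e.hom)
    have h3 : Spec.map ψ ≫ Spec.map (CommRingCat.ofHom (Ideal.Quotient.mk I)) =
        Spec.map (CommRingCat.ofHom h.toRingHom) := by
      rw [hψ, ← h2, he, Category.assoc]
    rw [← Spec.map_comp] at h3
    have h4 := congrArg (fun w => w.hom z) (Spec.map_injective h3)
    change ψ.hom (Ideal.Quotient.mk I z) = h z at h4
    rw [← h4, Ideal.Quotient.eq_zero_iff_mem.2 hz, map_zero]
  · intro hh
    let ψ : T ⧸ I →+* T' := Ideal.Quotient.lift I h.toRingHom (fun z hz => hh z hz)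
    have h3 : Spec.map (CommRingCat.ofHom h.toRingHom) =
        Spec.map (CommRingCat.ofHom ψ) ≫ Spec.map (CommRingCat.ofHom (Ideal.Quotient.mk I)) := by
      rw [← Spec.map_comp, ← CommRingCat.ofHom_comp, Ideal.Quotient.lift_comp_mk]
    have h4 : Spec.map (CommRingCat.ofHom h.toRingHom) =
        (Spec.map (CommRingCat.ofHom ψ) ≫ e.inv) ≫ (equalizer.ι u₁ u₂).left := by
      rw [h3, he, Category.assoc, Iso.inv_hom_id_assoc]
    have h5 : (equalizer.ι u₁ u₂).left ≫ u₁.left = (equalizer.ι u₁ u₂).left ≫ u₂.left :=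
      congrArg CommaMorphism.left (equalizer.condition u₁ u₂)
    apply Over.OverMorphism.ext
    rw [Over.comp_left, Over.comp_left, smap_left, h4]
    exact (Category.assoc _ _ _).trans ((congrArg (_ ≫ ·) h5).trans (Category.assoc _ _ _).symm)

/-- Lifting through an open immersion can be tested after a surjective map. -/
theorem exists_factor {C : Type u} [CommRing C] [Algebra A C] {X : Over (Spec (CommRingCat.of A))} (jo : sp A C ⟶ X)
    [IsOpenImmersion jo.left] (x : sp A T ⟶ X) (h : Set.range x.left ⊆ Set.range jo.left) :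
    ∃ θ : C →ₐ[A] T, smap θ ≫ jo = x := by
  let l : (sp A T).left ⟶ (sp A C).left := IsOpenImmersion.lift jo.left x.left h
  have hl : l ≫ jo.left = x.left := IsOpenImmersion.lift_fac _ _ _
  let lo : sp A T ⟶ sp A C := Over.homMk l (by rw [← Over.w jo, ← Category.assoc, hl, Over.w])
  obtain ⟨θ, hθ⟩ := exists_smap lo
  refine ⟨θ, ?_⟩
  rw [hθ]
  exact Over.OverMorphism.ext hl

end K553.Sp
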