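import Groth.Agent.S1877
import Groth.Agent.S1878
import Groth.Agent.Sga3.H775.ActGrpd
import Groth.Agent.NonAbH1.K553.IntElem
import Groth.Agent.NonAbH1.K554.Fpqc2
import Groth.Agent.Dix.GenFibre

/-!
# A free action of a finite flat group scheme which is a torsor generically (affine base)
-/

set_option autoImplicit false
universe u

open CategoryTheory CategoryTheory.Limits MonoidalCategory CartesianMonoidalCategory MonObj GrpObj AlgebraicGeometry
open Groth.Agent.Books.BorelOrb

namespace K553.SubTors

/-- Descent of functions along a faithfully flat quasi-compact morphism. -/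
theorem exists_function_desc {S : Scheme.{u}} (X : Over S) [Flat X.hom] [Surjective X.hom] [QuasiCompact X.hom] :
    Function.Injective X.hom.appTop.hom ∧ ∀ s : Γ(X.left, ⊤),
      (pullback.fst X.hom X.hom).appTop.hom s = (pullback.snd X.hom X.hom).appTop.hom s →
        ∃ t, X.hom.appTop.hom t = s := by
  have hX := K554.Fpqc2.isLocallyTrivialFor_of_flat X
  have key : ∀ {Z W : Scheme.{u}} (f g : Z ⟶ W) (q : W ⟶ S) (_ : f ≫ q = g ≫ q) (s : Γ(W, ⊤)),
      f.appTop.hom s = g.appTop.hom s ↔ f ≫ AffineSpace.homOfVector q (fun _ : PUnit.{u+1} => s) =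
        g ≫ AffineSpace.homOfVector q (fun _ : PUnit.{u+1} => s) := by
    intro Z W f g q hq s
    rw [AffineSpace.comp_homOfVector, AffineSpace.comp_homOfVector]
    constructor
    · intro h
      ext i
      · simp [hq]
      · simp only [AffineSpace.homOfVector_appTop_coord, Function.comp]
        exact h
    · intro h
      have h1 := congrArg (fun z => z.appTop.hom (AffineSpace.coord S PUnit.unit)) h
      simpa [AffineSpace.homOfVector_appTop_coord] using h1
  constructor
  · intro s s' h
    have h1 : X.hom ≫ AffineSpace.homOfVector (𝟙 S) (fun _ : PUnit.{u+1} => s) =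
        X.hom ≫ AffineSpace.homOfVector (𝟙 S) (fun _ : PUnit.{u+1} => s') := by
      rw [AffineSpace.comp_homOfVector, AffineSpace.comp_homOfVector]
      congr 1
      funext i
      exact h
    have h2 := K554.Fpqc.epi_of_isLocallyTrivialFor Scheme.fpqcPrecoverage hX h1
    have h3 := congrArg (fun z => z.appTop.hom (AffineSpace.coord S PUnit.unit)) h2
    simpa [AffineSpace.homOfVector_appTop_coord] using h3
  · intro s h
    obtain ⟨t, ht⟩ := K554.Fpqc.exists_desc Scheme.fpqcPrecoverage hX _
      ((key (pullback.fst X.hom X.hom) (pullback.snd X.hom X.hom) X.hom pullback.condition s).1 h)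
    refine ⟨t.appTop.hom (AffineSpace.coord S PUnit.unit), ?_⟩
    change (t.appTop ≫ X.hom.appTop).hom _ = s
    rw [← Scheme.Hom.comp_appTop, ht]
    exact AffineSpace.homOfVector_appTop_coord _ _ _

section Quot

variable {A : Type u} [CommRing A] {H Z : Over (Spec (CommRingCat.of A))} [GrpObj H]
  [IsFinite H.hom] [Flat H.hom] [LocallyOfFinitePresentation H.hom] [IsFinite Z.hom] (b : AlgGrp.Action H Z)

/-- the ring map of an affine morphism -/
noncomputable def ringMap (Z : Over (Spec (CommRingCat.of A))) : A →+* Γ(Z.left, ⊤) :=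
  Z.hom.appTop.hom.comp (Scheme.ΓSpecIso (CommRingCat.of A)).inv.hom

theorem toSpecΓ_ringMap (Z : Over (Spec (CommRingCat.of A))) :
    Z.left.toSpecΓ ≫ Spec.map (CommRingCat.ofHom (ringMap Z)) = Z.hom := by
  have h1 : CommRingCat.ofHom (ringMap Z) = (Scheme.ΓSpecIso (CommRingCat.of A)).inv ≫ Z.hom.appTop := rfl
  rw [h1, Spec.map_comp, ← Scheme.toSpecΓ_naturality_assoc, toSpecΓ_SpecMap_ΓSpecIso_inv, Category.comp_id]

open Groth.Agent.Sga3.H775.ActGrpd

omit [IsFinite H.hom] [Flat H.hom] [LocallyOfFinitePresentation H.hom] [IsFinite Z.hom] in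
theorem ivr_ivr : ivr b ≫ ivr b = 𝟙 (H ⊗ Z) := by
  apply CartesianMonoidalCategory.hom_ext
  · have h := comp_ivr_fst b (ivr b)
    have h' := comp_ivr_fst b (𝟙 (H ⊗ Z))
    rw [Category.id_comp, Category.id_comp] at h'
    rw [h, h', _root_.inv_inv, Category.id_comp]
  · have h := comp_ivr_snd b (ivr b)
    have h' := comp_ivr_act b (𝟙 (H ⊗ Z))
    rw [Category.id_comp, Category.id_comp] at h'
    rw [h, h', Category.id_comp]

instance : IsIso (ivr b) := ⟨ivr b, ivr_ivr b, ivr_ivr b⟩

omit [IsFinite H.hom] [Flat H.hom] [LocallyOfFinitePresentation H.hom] [IsFinite Z.hom] in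
theorem ivr_snd : ivr b ≫ snd H Z = b.act := by
  have h := comp_ivr_snd b (𝟙 (H ⊗ Z))
  rwa [Category.id_comp, Category.id_comp] at h

theorem isPullback_of_iso {R U M : Scheme.{u}} {t s : R ⟶ U} {q : U ⟶ M} (φ : R ≅ pullback q q)
    (h1 : φ.hom ≫ pullback.fst q q = t) (h2 : φ.hom ≫ pullback.snd q q = s) : IsPullback t s q q := by
  refine IsPullback.of_iso (IsPullback.of_hasPullback q q) φ.symm (Iso.refl _) (Iso.refl _)
      (Iso.refl _) ?_ ?_ ?_ ?_
  · rw [Iso.refl_hom, Category.comp_id, Iso.symm_hom, Iso.eq_inv_comp]; exact h1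
  · rw [Iso.refl_hom, Category.comp_id, Iso.symm_hom, Iso.eq_inv_comp]; exact h2
  · simp
  · simp

/-- The quotient of a finite scheme by a free action. -/
theorem exists_quot (hm : Mono (lift b.act (snd H Z))) :
    ∃ (C : Subring Γ(Z.left, ⊤)) (q : Z.left ⟶ Spec (CommRingCat.of C)),
      (∀ c, c ∈ C ↔ (snd H Z).left.appTop.hom c = b.act.left.appTop.hom c) ∧
      q = Z.left.toSpecΓ ≫ Spec.map (CommRingCat.ofHom C.subtype) ∧ Flat q ∧ Surjective q ∧
      IsPullback b.act.left (snd H Z).left q q := by
  have : IsAffine Z.left := isAffine_of_isAffineHom Z.hom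
  have i1 : IsFinite (snd H Z).left := inferInstanceAs (IsFinite (pullback.snd H.hom Z.hom))
  have i2 : Flat (snd H Z).left := inferInstanceAs (Flat (pullback.snd H.hom Z.hom))
  have i3 : LocallyOfFinitePresentation (snd H Z).left :=
    inferInstanceAs (LocallyOfFinitePresentation (pullback.snd H.hom Z.hom))
  have i4 : IsIso (ivr b).left := inferInstanceAs (IsIso ((Over.forget _).map (ivr b)))
  have i5 : IsFinite b.act.left := by rw [← ivr_snd b, Over.comp_left]; infer_instance
  have i6 : Flat b.act.left := by rw [← ivr_snd b, Over.comp_left]; infer_instance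
  have i7 : LocallyOfFinitePresentation b.act.left := by
    rw [← ivr_snd b, Over.comp_left]; infer_instance
  have i8 : IsAffine (H ⊗ Z).left := isAffine_of_isAffineHom (snd H Z).left
  let Gd := actGrpd b
  have : IsAffine Gd.U := inferInstanceAs (IsAffine Z.left)
  have : IsAffine Gd.R := i8
  have : IsFinite Gd.s := i1
  have : Flat Gd.s := i2
  have : LocallyOfFinitePresentation Gd.s := i3
  have : IsFinite Gd.t := i5
  have : Flat Gd.t := i6
  have : LocallyOfFinitePresentation Gd.t := i7
  have hmj : Mono Gd.j := by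
    have h1 : Mono (lift b.act (snd H Z)).left :=
      inferInstanceAs (Mono ((Over.forget _).map (lift b.act (snd H Z))))
    exact h1
  obtain ⟨⟨q1, q2, q3⟩, ⟨φ, hφ1, hφ2⟩⟩ := Groth.Agent.S1877.result _ Gd
  have q4 := (Groth.Agent.S1878.result _ Gd).1.1
  exact ⟨Gd.invariants, Gd.toQuot, fun c => Iff.rfl, rfl, q2, ⟨q4⟩, isPullback_of_iso φ hφ1 hφ2⟩

/-- If the invariant functions come from the base, a free action is a torsor. -/
theorem of_invariants (hm : Mono (lift b.act (snd H Z))) (hinj : Function.Injective (ringMap Z))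
    (hinv : ∀ c : Γ(Z.left, ⊤), b.act.left.appTop.hom c = (snd H Z).left.appTop.hom c →
      ∃ a, ringMap Z a = c) :
    IsIso (lift b.act (snd H Z)) ∧ Flat Z.hom ∧ Surjective Z.hom := by
  obtain ⟨C, q, hC, hqdef, hq1, hq2, hpb⟩ := exists_quot b hm
  have hmem : ∀ a : A, ringMap Z a ∈ C := by
    intro a
    rw [hC]
    change (snd H Z).left.appTop.hom (Z.hom.appTop.hom _) = b.act.left.appTop.hom (Z.hom.appTop.hom _)
    have hw : (snd H Z).left ≫ Z.hom = b.act.left ≫ Z.hom := by rw [Over.w, Over.w]
    have h2 := congrArg (fun z => z.appTop.hom ((Scheme.ΓSpecIso (CommRingCat.of A)).inv.hom a)) hw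
    exact h2
  let ψ : A →+* C := (ringMap Z).codRestrict C hmem
  have hψ : Function.Bijective ψ := by
    constructor
    · intro a a' h
      exact hinj (congrArg Subtype.val h)
    · rintro ⟨c, hc⟩
      obtain ⟨a, ha⟩ := hinv c ((hC c).1 hc).symm
      exact ⟨a, Subtype.ext ha⟩
  let e : CommRingCat.of A ≅ CommRingCat.of C := (RingEquiv.ofBijective ψ hψ).toCommRingCatIso
  have hψi : IsIso (Spec.map (CommRingCat.ofHom ψ)) := by
    have : CommRingCat.ofHom ψ = e.hom := rfl
    rw [this]; infer_instance
  have hq : q ≫ Spec.map (CommRingCat.ofHom ψ) = Z.hom := by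
    rw [← toSpecΓ_ringMap Z, hqdef, Category.assoc, ← Spec.map_comp]
    rfl
  have r1 : Flat Z.hom := by rw [← hq]; infer_instance
  have r2 : Surjective Z.hom := by rw [← hq]; infer_instance
  have hpb' : IsPullback b.act.left (snd H Z).left Z.hom Z.hom := by
    refine IsPullback.of_iso hpb (Iso.refl _) (Iso.refl _) (Iso.refl _) (asIso (Spec.map (CommRingCat.ofHom ψ)))
      ?_ ?_ ?_ ?_
    · simp
    · simp
    · rw [asIso_hom, hq, Iso.refl_hom, Category.id_comp]
    · rw [asIso_hom, hq, Iso.refl_hom, Category.id_comp]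
  have r3 : IsIso (lift b.act (snd H Z)).left := by
    have : (lift b.act (snd H Z)).left = hpb'.isoPullback.hom := by
      apply pullback.hom_ext
      · rw [hpb'.isoPullback_hom_fst]
        change (lift b.act (snd H Z)).left ≫ (fst Z Z).left = _
        rw [← Over.comp_left, lift_fst]
      · rw [hpb'.isoPullback_hom_snd]
        change (lift b.act (snd H Z)).left ≫ (snd Z Z).left = _
        rw [← Over.comp_left, lift_snd]
    rw [this]; infer_instance
  have : IsIso ((Over.forget _).map (lift b.act (snd H Z))) := r3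
  exact ⟨isIso_of_reflects_iso _ (Over.forget _), r1, r2⟩

end Quot

end K553.SubTors
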