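import Groth.Agent.NonAbH1.K553.SubTors
import Groth.Agent.Dix.GenFibre

/-!
# A free action of a finite flat group scheme over a discrete valuation ring which is a torsor
generically is a torsor when the special fibre of the base is reduced (affine base)
-/

set_option autoImplicit false
universe u

open CategoryTheory CategoryTheory.Limits MonoidalCategory CartesianMonoidalCategory MonObj GrpObj AlgebraicGeometry
open Groth.Agent.Books.BorelOrb
open scoped TensorProduct

namespace K553.SubTorsGen

open K553.SubTors

section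

variable {R : Type u} [CommRing R] [IsDomain R]

/-- base change of the generic point along a flat morphism -/
theorem dom_of_isPullback {Y YK : Scheme.{u}} {y : Y ⟶ Spec (CommRingCat.of R)} [Flat y] {a : YK ⟶ Y}
    {c : YK ⟶ Spec (CommRingCat.of (FractionRing R))}
    (h : IsPullback a c y (Spec.map (CommRingCat.ofHom (algebraMap R (FractionRing R))))) :
    IsSchemeTheoreticallyDominant a ∧ QuasiCompact a := by
  have h1 : IsSchemeTheoreticallyDominant (Neron.genPt R) := inferInstance
  have h2 : QuasiCompact (Neron.genPt R) := inferInstance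
  constructor
  · exact IsSchemeTheoreticallyDominant.of_isPullback (f := Neron.genPt R) (g := y) h.flip
  · exact MorphismProperty.of_isPullback (P := @QuasiCompact) h.flip h2

theorem appTop_injective_of_dom {X Y : Scheme.{u}} (f : X ⟶ Y) [IsSchemeTheoreticallyDominant f] [QuasiCompact f] :
    Function.Injective f.appTop.hom := f.app_injective ⊤

variable {A : Type u} [CommRing A] [Algebra R A]

/-- functions on the generic fibre have denominators in `R` -/
theorem exists_den_generic (s : Γ(pullback (Spec.map (CommRingCat.ofHom (algebraMap R A)))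
      (Spec.map (CommRingCat.ofHom (algebraMap R (FractionRing R)))), ⊤)) :
    ∃ (r : R) (a : A), r ≠ 0 ∧
      (pullback.fst (Spec.map (CommRingCat.ofHom (algebraMap R A)))
        (Spec.map (CommRingCat.ofHom (algebraMap R (FractionRing R))))).appTop.hom
          ((Scheme.ΓSpecIso (CommRingCat.of A)).inv.hom (algebraMap R A r)) * s =
      (pullback.fst (Spec.map (CommRingCat.ofHom (algebraMap R A)))
        (Spec.map (CommRingCat.ofHom (algebraMap R (FractionRing R))))).appTop.hom
          ((Scheme.ΓSpecIso (CommRingCat.of A)).inv.hom a) := by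
  set g := pullback.fst (Spec.map (CommRingCat.ofHom (algebraMap R A)))
        (Spec.map (CommRingCat.ofHom (algebraMap R (FractionRing R)))) with hg
  let e := pullbackSpecIso R A (FractionRing R)
  let θ := e.inv.appTop ≫ (Scheme.ΓSpecIso (CommRingCat.of (A ⊗[R] FractionRing R))).hom
  have hθ : Function.Injective θ.hom := by
    have h1 : IsIso e.inv := inferInstance
    have h2 : IsIso e.inv.appTop := inferInstanceAs (IsIso (e.inv.app ⊤))
    have : IsIso θ := IsIso.comp_isIso
    exact (ConcreteCategory.bijective_of_isIso θ).1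
  have hθg : ∀ x : A, θ.hom (g.appTop.hom ((Scheme.ΓSpecIso (CommRingCat.of A)).inv.hom x)) =
      x ⊗ₜ[R] (1 : FractionRing R) := by
    intro x
    have h1 : e.inv ≫ g = Spec.map (CommRingCat.ofHom Algebra.TensorProduct.includeLeftRingHom) :=
      pullbackSpecIso_inv_fst R A (FractionRing R)
    have h2 : (Scheme.ΓSpecIso (CommRingCat.of A)).inv ≫ g.appTop ≫ θ =
        CommRingCat.ofHom Algebra.TensorProduct.includeLeftRingHom := by
      change (Scheme.ΓSpecIso (CommRingCat.of A)).inv ≫ g.appTop ≫ e.inv.appTop ≫ _ = _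
      rw [← Scheme.Hom.comp_appTop_assoc, h1, ← Scheme.ΓSpecIso_inv_naturality_assoc, Iso.inv_hom_id,
        Category.comp_id]
    exact congrArg (fun z => z.hom x) h2
  obtain ⟨r, a, hr, h⟩ := IntElem.exists_den (θ.hom s)
  refine ⟨r, a, hr, hθ ?_⟩
  rw [map_mul, hθg, hθg, ← h, ← Algebra.TensorProduct.algebraMap_apply, ← Algebra.smul_def]

end

section Main

variable {R : Type u} [CommRing R] [IsDomain R] [IsDiscreteValuationRing R] {A : Type u} [CommRing A] [Algebra R A]
  [Flat (Spec.map (CommRingCat.ofHom (algebraMap R A)))]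
  (hred : _root_.IsReduced (A ⊗[R] IsLocalRing.ResidueField R))
  {H Z : Over (Spec (CommRingCat.of A))} [GrpObj H]
  [IsFinite H.hom] [Flat H.hom] [LocallyOfFinitePresentation H.hom] [IsFinite Z.hom]
  (b : AlgGrp.Action H Z)

include hred in
/-- A free action which is generically a torsor is a torsor, when the special fibre of the base is
reduced. -/
theorem isTorsor (hZ : Flat (Z.hom ≫ Spec.map (CommRingCat.ofHom (algebraMap R A))))
    (hm : Mono (lift b.act (snd H Z)))
    (hq1 : Flat (pullback.snd Z.hom (pullback.fst (Spec.map (CommRingCat.ofHom (algebraMap R A)))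
        (Spec.map (CommRingCat.ofHom (algebraMap R (FractionRing R)))))))
    (hq2 : Surjective (pullback.snd Z.hom (pullback.fst (Spec.map (CommRingCat.ofHom (algebraMap R A)))
        (Spec.map (CommRingCat.ofHom (algebraMap R (FractionRing R)))))))
    (htr : ∀ {T : Scheme.{u}} (z z' : T ⟶ Z.left) (t : T ⟶ pullback (Spec.map (CommRingCat.ofHom (algebraMap R A)))
        (Spec.map (CommRingCat.ofHom (algebraMap R (FractionRing R))))),
        z ≫ Z.hom = t ≫ pullback.fst _ _ → z' ≫ Z.hom = t ≫ pullback.fst _ _ →
        ∃ w : T ⟶ (H ⊗ Z).left, w ≫ b.act.left = z ∧ w ≫ (snd H Z).left = z') :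
    IsIso (lift b.act (snd H Z)) ∧ Flat Z.hom ∧ Surjective Z.hom := by
  set g := pullback.fst (Spec.map (CommRingCat.ofHom (algebraMap R A)))
        (Spec.map (CommRingCat.ofHom (algebraMap R (FractionRing R)))) with hg
  have hZa : IsAffine Z.left := isAffine_of_isAffineHom Z.hom
  let πZ : pullback Z.hom g ⟶ Z.left := pullback.fst Z.hom g
  let q : Over (pullback (Spec.map (CommRingCat.ofHom (algebraMap R A)))
        (Spec.map (CommRingCat.ofHom (algebraMap R (FractionRing R))))) := Over.mk (pullback.snd Z.hom g)
  have hqf : Flat q.hom := hq1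
  have hqs : Surjective q.hom := hq2
  have hqq : QuasiCompact q.hom := inferInstanceAs (QuasiCompact (pullback.snd Z.hom g))
  have hpbZ : IsPullback πZ (pullback.snd Z.hom g ≫ pullback.snd _ _)
      (Z.hom ≫ Spec.map (CommRingCat.ofHom (algebraMap R A)))
      (Spec.map (CommRingCat.ofHom (algebraMap R (FractionRing R)))) :=
    (IsPullback.of_hasPullback Z.hom g).paste_vert (IsPullback.of_hasPullback _ _)
  obtain ⟨d1, d2⟩ := dom_of_isPullback hpbZ
  have hπ : Function.Injective πZ.appTop.hom := appTop_injective_of_dom πZ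
  obtain ⟨d3, d4⟩ := dom_of_isPullback (IsPullback.of_hasPullback (Spec.map (CommRingCat.ofHom (algebraMap R A)))
        (Spec.map (CommRingCat.ofHom (algebraMap R (FractionRing R)))))
  have hgi : Function.Injective g.appTop.hom := appTop_injective_of_dom g
  obtain ⟨hqi, hqd⟩ := exists_function_desc q
  have hι : Function.Injective (Scheme.ΓSpecIso (CommRingCat.of A)).inv.hom :=
    (ConcreteCategory.bijective_of_isIso (Scheme.ΓSpecIso (CommRingCat.of A)).inv).1
  -- comparison of the two pull-backs
  have hcomp : ∀ x : Γ(Spec (CommRingCat.of A), ⊤),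
      πZ.appTop.hom (Z.hom.appTop.hom x) = q.hom.appTop.hom (g.appTop.hom x) := by
    intro x
    have h1 : πZ ≫ Z.hom = q.hom ≫ g := pullback.condition
    have h2 := congrArg (fun z => z.appTop.hom x) h1
    exact h2
  have hinj : Function.Injective (ringMap Z) := by
    intro x y hxy
    apply hι
    apply hgi
    apply hqi
    rw [← hcomp, ← hcomp]
    exact congrArg πZ.appTop.hom hxy
  -- torsion freeness
  have htf : ∀ r : R, r ≠ 0 → ∀ c : Γ(Z.left, ⊤), ringMap Z (algebraMap R A r) * c = 0 → c = 0 := by
    have h1 : (ringMap Z).comp (algebraMap R A) =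
        ((Scheme.ΓSpecIso (CommRingCat.of R)).inv ≫
          (Z.hom ≫ Spec.map (CommRingCat.ofHom (algebraMap R A))).appTop).hom := by
      rw [Scheme.Hom.comp_appTop, ← Scheme.ΓSpecIso_inv_naturality_assoc]
      rfl
    have h2 : ((ringMap Z).comp (algebraMap R A)).Flat := by
      rw [h1]
      have h3 := (HasRingHomProperty.iff_of_isAffine (P := @Flat)).1 hZ
      rw [CommRingCat.hom_comp]
      exact RingHom.Flat.comp (RingHom.Flat.of_bijective
        (ConcreteCategory.bijective_of_isIso (Scheme.ΓSpecIso (CommRingCat.of R)).inv)) h3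
    intro r hr c hc
    let _ : Algebra R Γ(Z.left, ⊤) := ((ringMap Z).comp (algebraMap R A)).toAlgebra
    have h4 : Module.Flat R Γ(Z.left, ⊤) := h2
    have h5 : r • c = 0 := by rw [Algebra.smul_def]; exact hc
    exact (smul_eq_zero.1 h5).resolve_left hr
  refine of_invariants b hm hinj fun c hc => ?_
  have hdes : (pullback.fst q.hom q.hom).appTop.hom (πZ.appTop.hom c) =
      (pullback.snd q.hom q.hom).appTop.hom (πZ.appTop.hom c) := by
    obtain ⟨w, hw1, hw2⟩ := htr (pullback.fst q.hom q.hom ≫ πZ) (pullback.snd q.hom q.hom ≫ πZ)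
      (pullback.fst q.hom q.hom ≫ q.hom)
      (by rw [Category.assoc, Category.assoc]; exact congrArg (_ ≫ ·) pullback.condition)
      (by
        rw [pullback.condition (f := q.hom) (g := q.hom), Category.assoc, Category.assoc]
        exact congrArg (_ ≫ ·) pullback.condition)
    have e1 : (pullback.fst q.hom q.hom ≫ πZ).appTop.hom c = w.appTop.hom (b.act.left.appTop.hom c) := by
      rw [← hw1]; rfl
    have e2 : (pullback.snd q.hom q.hom ≫ πZ).appTop.hom c = w.appTop.hom ((snd H Z).left.appTop.hom c) := by
      rw [← hw2]; rfl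
    rw [hc, ← e2] at e1
    exact e1
  obtain ⟨s, hs⟩ := hqd _ hdes
  obtain ⟨r, a, hr, hra⟩ := exists_den_generic (R := R) (A := A) s
  have hfin : (ringMap Z).Finite := by
    have h1 : Z.hom.appTop.hom.Finite := Z.hom.finite_appTop
    exact h1.comp (RingHom.Finite.of_surjective _
      (ConcreteCategory.bijective_of_isIso (Scheme.ΓSpecIso (CommRingCat.of A)).inv).2)
  refine IntElem.mem_of_integral_dvr (ringMap Z) hinj htf hred (hfin.to_isIntegral c) hr (a := a) ?_
  apply hπ
  rw [map_mul]
  change πZ.appTop.hom (Z.hom.appTop.hom _) * _ = πZ.appTop.hom (Z.hom.appTop.hom _)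
  rw [hcomp, hcomp, ← hs, ← map_mul]
  congr 1

end Main

end K553.SubTorsGen
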